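import Cfsg.Agent.Lib.ThreeTrans.O83.Enc

set_option autoImplicit false
set_option maxRecDepth 10000

/-!
Data for the classification of the subgroups of order 3 of PΩ⁺(8, 3) (owner: helper18).
Reductions along the filtration: conjugator, representative, remainder; none when the cube is nontrivial.
-/

namespace CfsgLib.ThreeTrans.O83

/-- Level 0. -/
def step0 : List (List ℕ × List (Option (List ℕ × List ℕ × List ℕ))) := [
  ([], [some ([], [], []), some ([], [18], []), some ([5], [18], [])])]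

/-- Level 1. -/
def step1 : List (List ℕ × List (Option (List ℕ × List ℕ × List ℕ))) := [
  ([], [some ([], [], []), some ([], [14], []), some ([4], [14], [])]),
  ([18], [some ([], [18], []), some ([], [18, 14], []), some ([4], [18, 14], [])])]

/-- Level 2. -/
def step2 : List (List ℕ × List (Option (List ℕ × List ℕ × List ℕ))) := [
  ([], [some ([], [], []), some ([], [13], []), some ([5], [13], [])]),
  ([14], [some ([], [14], []), some ([], [14, 13], []), some ([5], [14, 13], [])]),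
  ([18], [some ([], [18], []), some ([], [18, 13], []), some ([], [18, 13, 13], [])]),
  ([18, 14], [some ([], [18, 14], []), some ([], [18, 14, 13], []), some ([], [18, 14, 13, 13], [])])]

/-- Level 3. -/
def step3 : List (List ℕ × List (Option (List ℕ × List ℕ × List ℕ))) := [
  ([], [some ([], [], []), some ([], [12], []), some ([5], [12], [])]),
  ([13], [some ([], [13], []), some ([], [13, 12], []), some ([], [13, 12, 12], [])]),
  ([14], [some ([], [14], []), some ([], [14, 12], []), some ([5], [14, 12], [])]),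
  ([14, 13], [some ([], [14, 13], []), some ([], [14, 13, 12], []), some ([], [14, 13, 12, 12], [])]),
  ([18], [some ([], [18], []), some ([], [18, 12], []), some ([], [18, 12, 12], [])]),
  ([18, 13], [some ([], [18, 13], []), some ([], [18, 13, 12], []), some ([], [18, 13, 12, 12], [])]),
  ([18, 13, 13], [some ([], [18, 13, 13], []), some ([], [18, 13, 13, 12], []), some ([], [18, 13, 13, 12, 12], [])]),
  ([18, 14], [some ([], [18, 14], []), some ([], [18, 14, 12], []), some ([], [18, 14, 12, 12], [])]),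
  ([18, 14, 13], [some ([], [18, 14, 13], []), some ([], [18, 14, 13, 12], []), some ([], [18, 14, 13, 12, 12], [])]),
  ([18, 14, 13, 13], [some ([], [18, 14, 13, 13], []), some ([], [18, 14, 13, 13, 12], []), some ([], [18, 14, 13, 13, 12, 12], [])])]

/-- Level 4. -/
def step4 : List (List ℕ × List (Option (List ℕ × List ℕ × List ℕ))) := [
  ([], [some ([], [], []), some ([], [19], []), some ([4], [19], [])]),
  ([12], [some ([], [12], []), some ([], [12, 19], []), some ([4], [12, 19], [])]),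
  ([13], [some ([], [13], []), some ([], [13, 19], []), some ([4], [13, 19], [])]),
  ([13, 12], [some ([], [13, 12], []), some ([], [13, 12, 19], []), some ([4], [13, 12, 19], [])]),
  ([13, 12, 12], [some ([], [13, 12, 12], []), some ([], [13, 12, 12, 19], []), some ([4], [13, 12, 12, 19], [])]),
  ([14], [some ([], [14], []), some ([0, 0, 0, 0], [14], []), some ([0, 0], [14], [])]),
  ([14, 12], [some ([], [14, 12], []), some ([0, 0, 0, 0], [14, 12], [20]), some ([0, 0], [14, 12], [20, 20])]),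
  ([14, 13], [some ([], [14, 13], []), some ([0, 0, 0, 0], [14, 13], [21]), some ([0, 0], [14, 13], [21, 21])]),
  ([14, 13, 12], [some ([], [14, 13, 12], []), some ([0, 0, 0, 0], [14, 13, 12], [20, 21, 22, 22]), some ([0, 0], [14, 13, 12], [20, 20, 21, 21, 22])]),
  ([14, 13, 12, 12], [some ([], [14, 13, 12, 12], []), some ([0, 0, 0, 0], [14, 13, 12, 12], [20, 20, 21, 22]), some ([0, 0], [14, 13, 12, 12], [20, 21, 21, 22, 22])]),
  ([18], [some ([], [18], []), some ([1, 1], [18], []), some ([1, 1, 1, 1], [18], [])]),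
  ([18, 12], [some ([], [18, 12], []), some ([1, 1], [18, 12], [15, 20]), some ([1, 1, 1, 1], [18, 12], [15, 15, 20, 20])]),
  ([18, 12, 12], [some ([], [18, 12, 12], []), some ([1, 1], [18, 12, 12], [15, 15, 20, 20]), some ([1, 1, 1, 1], [18, 12, 12], [15, 20])]),
  ([18, 13], [some ([], [18, 13], []), some ([1, 1], [18, 13], [16, 21]), some ([1, 1, 1, 1], [18, 13], [16, 16, 21, 21])]),
  ([18, 13, 12], [some ([], [18, 13, 12], []), some ([1, 1], [18, 13, 12], [15, 16, 20, 21, 17, 17, 22, 22, 23]), some ([1, 1, 1, 1], [18, 13, 12], [15, 15, 16, 16, 20, 20, 21, 21, 17, 22, 23])]),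
  ([18, 13, 12, 12], [some ([], [18, 13, 12, 12], []), some ([1, 1], [18, 13, 12, 12], [15, 15, 16, 20, 20, 21, 17, 22, 23, 23]), some ([1, 1, 1, 1], [18, 13, 12, 12], [15, 16, 16, 20, 21, 21, 17, 17, 22, 22, 23, 23])]),
  ([18, 13, 13], [some ([], [18, 13, 13], []), some ([1, 1], [18, 13, 13], [16, 16, 21, 21]), some ([1, 1, 1, 1], [18, 13, 13], [16, 21])]),
  ([18, 13, 13, 12], [some ([], [18, 13, 13, 12], []), some ([1, 1], [18, 13, 13, 12], [15, 16, 16, 20, 21, 21, 17, 22, 23, 23]), some ([1, 1, 1, 1], [18, 13, 13, 12], [15, 15, 16, 20, 20, 21, 17, 17, 22, 22, 23, 23])]),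
  ([18, 13, 13, 12, 12], [some ([], [18, 13, 13, 12, 12], []), some ([1, 1], [18, 13, 13, 12, 12], [15, 15, 16, 16, 20, 20, 21, 21, 17, 17, 22, 22, 23]), some ([1, 1, 1, 1], [18, 13, 13, 12, 12], [15, 16, 20, 21, 17, 22, 23])]),
  ([18, 14], [some ([], [18, 14], []), some ([1, 1], [18, 14], []), some ([0, 0], [18, 14], [])]),
  ([18, 14, 12], [some ([], [18, 14, 12], []), some ([1, 1], [18, 14, 12], [15, 20]), some ([0, 0], [18, 14, 12], [20, 20])]),
  ([18, 14, 12, 12], [some ([], [18, 14, 12, 12], []), some ([1, 1], [18, 14, 12, 12], [15, 15, 20, 20]), some ([0, 0], [18, 14, 12, 12], [20])]),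
  ([18, 14, 13], [some ([], [18, 14, 13], []), some ([1, 1], [18, 14, 13], [16, 21]), some ([0, 0], [18, 14, 13], [21, 21])]),
  ([18, 14, 13, 12], [some ([], [18, 14, 13, 12], []), some ([1, 1], [18, 14, 13, 12], [15, 16, 20, 21, 17, 17, 22, 22, 23]), some ([0, 0], [18, 14, 13, 12], [20, 20, 21, 21, 22])]),
  ([18, 14, 13, 12, 12], [some ([], [18, 14, 13, 12, 12], []), some ([1, 1], [18, 14, 13, 12, 12], [15, 15, 16, 20, 20, 21, 17, 22, 23, 23]), some ([0, 0], [18, 14, 13, 12, 12], [20, 21, 21, 22, 22])]),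
  ([18, 14, 13, 13], [some ([], [18, 14, 13, 13], []), some ([1, 1], [18, 14, 13, 13], [16, 16, 21, 21]), some ([0, 0], [18, 14, 13, 13], [21])]),
  ([18, 14, 13, 13, 12], [some ([], [18, 14, 13, 13, 12], []), some ([1, 1], [18, 14, 13, 13, 12], [15, 16, 16, 20, 21, 21, 17, 22, 23, 23]), some ([0, 0], [18, 14, 13, 13, 12], [20, 20, 21, 22, 22])]),
  ([18, 14, 13, 13, 12, 12], [some ([], [18, 14, 13, 13, 12, 12], []), some ([1, 1], [18, 14, 13, 13, 12, 12], [15, 15, 16, 16, 20, 20, 21, 21, 17, 17, 22, 22, 23]), some ([0, 0], [18, 14, 13, 13, 12, 12], [20, 21, 22])])]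

/-- Level 5. -/
def step5 : List (List ℕ × List (Option (List ℕ × List ℕ × List ℕ))) := [
  ([], [some ([], [], []), some ([], [15], []), some ([4], [15], [])]),
  ([19], [some ([], [19], []), some ([], [19, 15], []), some ([], [19, 15, 15], [])]),
  ([12], [some ([], [12], []), some ([1, 1, 1, 1], [12], []), some ([1, 1], [12], [])]),
  ([12, 19], [some ([], [12, 19], []), some ([1, 1, 1, 1], [12, 19], []), some ([1, 1], [12, 19], [])]),
  ([13], [some ([], [13], []), some ([], [13, 15], []), some ([4], [13, 15], [])]),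
  ([13, 19], [some ([], [13, 19], []), some ([], [13, 19, 15], []), some ([], [13, 19, 15, 15], [])]),
  ([13, 12], [some ([], [13, 12], []), some ([1, 1, 1, 1], [13, 12], [16, 16, 17]), some ([1, 1], [13, 12], [16, 17, 17])]),
  ([13, 12, 19], [some ([], [13, 12, 19], []), some ([1, 1, 1, 1], [13, 12, 19], [16, 16, 17, 23]), some ([1, 1], [13, 12, 19], [16, 17, 17, 23, 23])]),
  ([13, 12, 12], [some ([], [13, 12, 12], []), some ([1, 1], [13, 12, 12], [16, 17]), some ([1, 1, 1, 1], [13, 12, 12], [16, 16, 17, 17])]),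
  ([13, 12, 12, 19], [some ([], [13, 12, 12, 19], []), some ([1, 1], [13, 12, 12, 19], [16, 17, 23]), some ([1, 1, 1, 1], [13, 12, 12, 19], [16, 16, 17, 17, 23, 23])]),
  ([14], [some ([], [14], []), some ([3, 3], [14], []), some ([3, 3, 3, 3], [14], [])]),
  ([14, 12], [some ([], [14, 12], []), some ([3, 3], [14, 12], []), some ([1, 1], [14, 12], [])]),
  ([14, 13], [some ([], [14, 13], []), some ([3, 3], [14, 13], [17]), some ([3, 3, 3, 3], [14, 13], [17, 17])]),
  ([14, 13, 12], [some ([], [14, 13, 12], []), some ([3, 3], [14, 13, 12], [17]), some ([1, 1], [14, 13, 12], [16, 17, 17])]),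
  ([14, 13, 12, 12], [some ([], [14, 13, 12, 12], []), some ([1, 1], [14, 13, 12, 12], [16, 17]), some ([1, 1, 1, 1], [14, 13, 12, 12], [16, 16, 17, 17])]),
  ([18], [some ([], [18], []), some ([], [18, 15], []), some ([4], [18, 15], [])]),
  ([18, 12], [some ([], [18, 12], []), some ([], [18, 12, 15], []), some ([4], [18, 12, 15], [])]),
  ([18, 12, 12], [some ([], [18, 12, 12], []), some ([], [18, 12, 12, 15], []), some ([4], [18, 12, 12, 15], [])]),
  ([18, 13], [some ([], [18, 13], []), some ([], [18, 13, 15], []), some ([4], [18, 13, 15], [])]),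
  ([18, 13, 12], [some ([], [18, 13, 12], []), some ([], [18, 13, 12, 15], []), some ([4], [18, 13, 12, 15], [])]),
  ([18, 13, 12, 12], [some ([], [18, 13, 12, 12], []), some ([], [18, 13, 12, 12, 15], []), some ([4], [18, 13, 12, 12, 15], [])]),
  ([18, 13, 13], [some ([], [18, 13, 13], []), some ([], [18, 13, 13, 15], []), some ([4], [18, 13, 13, 15], [])]),
  ([18, 13, 13, 12], [some ([], [18, 13, 13, 12], []), some ([], [18, 13, 13, 12, 15], []), some ([4], [18, 13, 13, 12, 15], [])]),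
  ([18, 13, 13, 12, 12], [some ([], [18, 13, 13, 12, 12], []), some ([], [18, 13, 13, 12, 12, 15], []), some ([4], [18, 13, 13, 12, 12, 15], [])]),
  ([18, 14], [some ([], [18, 14], []), some ([3, 3], [18, 14], []), some ([3, 3, 3, 3], [18, 14], [])]),
  ([18, 14, 12], [some ([], [18, 14, 12], []), some ([3, 3], [18, 14, 12], []), some ([0, 0, 1, 1], [18, 14, 12], [])]),
  ([18, 14, 12, 12], [some ([], [18, 14, 12, 12], []), some ([3, 3], [18, 14, 12, 12], []), some ([3, 3, 3, 3], [18, 14, 12, 12], [])]),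
  ([18, 14, 13], [some ([], [18, 14, 13], []), some ([3, 3], [18, 14, 13], [17]), some ([3, 3, 3, 3], [18, 14, 13], [17, 17])]),
  ([18, 14, 13, 12], [some ([], [18, 14, 13, 12], []), some ([3, 3], [18, 14, 13, 12], [17]), some ([0, 0, 1, 1], [18, 14, 13, 12], [16, 21, 17, 17, 22, 22])]),
  ([18, 14, 13, 12, 12], [some ([], [18, 14, 13, 12, 12], []), some ([3, 3], [18, 14, 13, 12, 12], [17]), some ([3, 3, 3, 3], [18, 14, 13, 12, 12], [17, 17])]),
  ([18, 14, 13, 13], [some ([], [18, 14, 13, 13], []), some ([3, 3], [18, 14, 13, 13], [17, 17]), some ([3, 3, 3, 3], [18, 14, 13, 13], [17])]),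
  ([18, 14, 13, 13, 12], [some ([], [18, 14, 13, 13, 12], []), some ([3, 3], [18, 14, 13, 13, 12], [17, 17]), some ([0, 0, 1, 1], [18, 14, 13, 13, 12], [16, 16, 21, 21, 17, 22])]),
  ([18, 14, 13, 13, 12, 12], [some ([], [18, 14, 13, 13, 12, 12], []), some ([3, 3], [18, 14, 13, 13, 12, 12], [17, 17]), some ([3, 3, 3, 3], [18, 14, 13, 13, 12, 12], [17])])]

/-- Level 6. -/
def step6 : List (List ℕ × List (Option (List ℕ × List ℕ × List ℕ))) := [
  ([], [some ([], [], []), some ([], [16], []), some ([4], [16], [])]),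
  ([15], [some ([], [15], []), some ([], [15, 16], []), some ([], [15, 16, 16], [])]),
  ([19], [some ([], [19], []), some ([], [19, 16], []), some ([], [19, 16, 16], [])]),
  ([19, 15], [some ([], [19, 15], []), some ([], [19, 15, 16], []), some ([], [19, 15, 16, 16], [])]),
  ([19, 15, 15], [some ([], [19, 15, 15], []), some ([], [19, 15, 15, 16], []), some ([], [19, 15, 15, 16, 16], [])]),
  ([12], [some ([], [12], []), some ([], [12, 16], []), some ([4], [12, 16], [])]),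
  ([12, 19], [some ([], [12, 19], []), some ([], [12, 19, 16], []), some ([], [12, 19, 16, 16], [])]),
  ([13], [some ([], [13], []), some ([1, 1, 1, 1], [13], []), some ([1, 1], [13], [])]),
  ([13, 15], [some ([], [13, 15], []), some ([1, 1, 1, 1], [13, 15], []), some ([1, 1], [13, 15], [])]),
  ([13, 19], [some ([], [13, 19], []), some ([1, 1, 1, 1], [13, 19], []), some ([1, 1], [13, 19], [])]),
  ([13, 19, 15], [some ([], [13, 19, 15], []), some ([1, 1, 1, 1], [13, 19, 15], []), some ([1, 1], [13, 19, 15], [])]),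
  ([13, 19, 15, 15], [some ([], [13, 19, 15, 15], []), some ([1, 1, 1, 1], [13, 19, 15, 15], []), some ([1, 1], [13, 19, 15, 15], [])]),
  ([13, 12], [some ([], [13, 12], []), some ([], [13, 12, 16], []), some ([4], [13, 12, 16], [])]),
  ([13, 12, 19], [some ([], [13, 12, 19], []), some ([], [13, 12, 19, 16], []), some ([], [13, 12, 19, 16, 16], [])]),
  ([13, 12, 12], [some ([], [13, 12, 12], []), some ([], [13, 12, 12, 16], []), some ([4], [13, 12, 12, 16], [])]),
  ([13, 12, 12, 19], [some ([], [13, 12, 12, 19], []), some ([], [13, 12, 12, 19, 16], []), some ([], [13, 12, 12, 19, 16, 16], [])]),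
  ([14], [some ([], [14], []), some ([2, 2], [14], []), some ([2, 2, 2, 2], [14], [])]),
  ([14, 12], [some ([], [14, 12], []), some ([2, 2], [14, 12], [17]), some ([2, 2, 2, 2], [14, 12], [17, 17])]),
  ([14, 13], [some ([], [14, 13], []), some ([2, 2], [14, 13], []), some ([1, 1], [14, 13], [])]),
  ([14, 13, 12], [some ([], [14, 13, 12], []), some ([2, 2], [14, 13, 12], [17]), some ([1, 1, 3, 3], [14, 13, 12], [17])]),
  ([14, 13, 12, 12], [some ([], [14, 13, 12, 12], []), some ([2, 2], [14, 13, 12, 12], [17, 17]), some ([2, 2, 2, 2], [14, 13, 12, 12], [17])]),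
  ([18], [some ([], [18], []), some ([], [18, 16], []), some ([4], [18, 16], [])]),
  ([18, 15], [some ([], [18, 15], []), some ([], [18, 15, 16], []), some ([], [18, 15, 16, 16], [])]),
  ([18, 12], [some ([], [18, 12], []), some ([], [18, 12, 16], []), some ([4], [18, 12, 16], [])]),
  ([18, 12, 15], [some ([], [18, 12, 15], []), some ([], [18, 12, 15, 16], []), some ([], [18, 12, 15, 16, 16], [])]),
  ([18, 12, 12], [some ([], [18, 12, 12], []), some ([], [18, 12, 12, 16], []), some ([4], [18, 12, 12, 16], [])]),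
  ([18, 12, 12, 15], [some ([], [18, 12, 12, 15], []), some ([], [18, 12, 12, 15, 16], []), some ([], [18, 12, 12, 15, 16, 16], [])]),
  ([18, 13], [some ([], [18, 13], []), some ([], [18, 13, 16], []), some ([4], [18, 13, 16], [])]),
  ([18, 13, 15], [some ([], [18, 13, 15], []), some ([], [18, 13, 15, 16], []), some ([], [18, 13, 15, 16, 16], [])]),
  ([18, 13, 12], [some ([], [18, 13, 12], []), some ([], [18, 13, 12, 16], []), some ([4], [18, 13, 12, 16], [])]),
  ([18, 13, 12, 15], [some ([], [18, 13, 12, 15], []), some ([], [18, 13, 12, 15, 16], []), some ([], [18, 13, 12, 15, 16, 16], [])]),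
  ([18, 13, 12, 12], [some ([], [18, 13, 12, 12], []), some ([], [18, 13, 12, 12, 16], []), some ([4], [18, 13, 12, 12, 16], [])]),
  ([18, 13, 12, 12, 15], [some ([], [18, 13, 12, 12, 15], []), some ([], [18, 13, 12, 12, 15, 16], []), some ([], [18, 13, 12, 12, 15, 16, 16], [])]),
  ([18, 13, 13], [some ([], [18, 13, 13], []), some ([], [18, 13, 13, 16], []), some ([4], [18, 13, 13, 16], [])]),
  ([18, 13, 13, 15], [some ([], [18, 13, 13, 15], []), some ([], [18, 13, 13, 15, 16], []), some ([], [18, 13, 13, 15, 16, 16], [])]),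
  ([18, 13, 13, 12], [some ([], [18, 13, 13, 12], []), some ([], [18, 13, 13, 12, 16], []), some ([4], [18, 13, 13, 12, 16], [])]),
  ([18, 13, 13, 12, 15], [some ([], [18, 13, 13, 12, 15], []), some ([], [18, 13, 13, 12, 15, 16], []), some ([], [18, 13, 13, 12, 15, 16, 16], [])]),
  ([18, 13, 13, 12, 12], [some ([], [18, 13, 13, 12, 12], []), some ([], [18, 13, 13, 12, 12, 16], []), some ([4], [18, 13, 13, 12, 12, 16], [])]),
  ([18, 13, 13, 12, 12, 15], [some ([], [18, 13, 13, 12, 12, 15], []), some ([], [18, 13, 13, 12, 12, 15, 16], []), some ([], [18, 13, 13, 12, 12, 15, 16, 16], [])]),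
  ([18, 14], [some ([], [18, 14], []), some ([2, 2], [18, 14], []), some ([2, 2, 2, 2], [18, 14], [])]),
  ([18, 14, 12], [some ([], [18, 14, 12], []), some ([2, 2], [18, 14, 12], [17]), some ([2, 2, 2, 2], [18, 14, 12], [17, 17])]),
  ([18, 14, 12, 12], [some ([], [18, 14, 12, 12], []), some ([2, 2], [18, 14, 12, 12], [17, 17]), some ([2, 2, 2, 2], [18, 14, 12, 12], [17])]),
  ([18, 14, 13], [some ([], [18, 14, 13], []), some ([2, 2], [18, 14, 13], []), some ([0, 0, 1, 1], [18, 14, 13], [])]),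
  ([18, 14, 13, 12], [some ([], [18, 14, 13, 12], []), some ([2, 2], [18, 14, 13, 12], [17]), some ([2, 2, 2, 2], [18, 14, 13, 12], [17, 17])]),
  ([18, 14, 13, 12, 12], [some ([], [18, 14, 13, 12, 12], []), some ([2, 2], [18, 14, 13, 12, 12], [17, 17]), some ([2, 2, 2, 2], [18, 14, 13, 12, 12], [17])]),
  ([18, 14, 13, 13], [some ([], [18, 14, 13, 13], []), some ([2, 2], [18, 14, 13, 13], []), some ([2, 2, 2, 2], [18, 14, 13, 13], [])]),
  ([18, 14, 13, 13, 12], [some ([], [18, 14, 13, 13, 12], []), some ([2, 2], [18, 14, 13, 13, 12], [17]), some ([2, 2, 2, 2], [18, 14, 13, 13, 12], [17, 17])]),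
  ([18, 14, 13, 13, 12, 12], [some ([], [18, 14, 13, 13, 12, 12], []), some ([2, 2], [18, 14, 13, 13, 12, 12], [17, 17]), some ([2, 2, 2, 2], [18, 14, 13, 13, 12, 12], [17])])]

/-- Level 7. -/
def step7 : List (List ℕ × List (Option (List ℕ × List ℕ × List ℕ))) := [
  ([], [some ([], [], []), some ([], [20], []), some ([4], [20], [])]),
  ([16], [some ([], [16], []), some ([], [16, 20], []), some ([4, 5], [16, 20], [])]),
  ([15], [some ([], [15], []), some ([0, 0, 0, 0], [15], []), some ([0, 0], [15], [])]),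
  ([15, 16], [some ([], [15, 16], []), some ([0, 0, 0, 0], [15, 16], [21, 21, 23, 23]), some ([0, 0], [15, 16], [21, 23])]),
  ([15, 16, 16], [some ([], [15, 16, 16], []), some ([0, 0, 0, 0], [15, 16, 16], [21, 23]), some ([0, 0], [15, 16, 16], [21, 21, 23, 23])]),
  ([19], [some ([], [19], []), some ([3, 3], [19], []), some ([3, 3, 3, 3], [19], [])]),
  ([19, 16], [some ([], [19, 16], []), some ([3, 3], [19, 16], [17, 17, 23, 23]), some ([3, 3, 3, 3], [19, 16], [17, 23])]),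
  ([19, 16, 16], [some ([], [19, 16, 16], []), some ([3, 3], [19, 16, 16], [17, 23]), some ([3, 3, 3, 3], [19, 16, 16], [17, 17, 23, 23])]),
  ([19, 15], [some ([], [19, 15], []), some ([3, 3], [19, 15], []), some ([0, 0], [19, 15], [])]),
  ([19, 15, 16], [some ([], [19, 15, 16], []), some ([3, 3], [19, 15, 16], [17, 17, 23, 23]), some ([0, 0], [19, 15, 16], [21, 23])]),
  ([19, 15, 16, 16], [some ([], [19, 15, 16, 16], []), some ([3, 3], [19, 15, 16, 16], [17, 23]), some ([0, 0], [19, 15, 16, 16], [21, 21, 23, 23])]),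
  ([19, 15, 15], [some ([], [19, 15, 15], []), some ([0, 0], [19, 15, 15], []), some ([0, 0, 0, 0], [19, 15, 15], [])]),
  ([19, 15, 15, 16], [some ([], [19, 15, 15, 16], []), some ([0, 0], [19, 15, 15, 16], [21, 23, 23]), some ([0, 0, 0, 0], [19, 15, 15, 16], [21, 21, 23])]),
  ([19, 15, 15, 16, 16], [some ([], [19, 15, 15, 16, 16], []), some ([0, 0], [19, 15, 15, 16, 16], [21, 21, 23]), some ([0, 0, 0, 0], [19, 15, 15, 16, 16], [21, 23, 23])]),
  ([12], [some ([], [12], []), some ([1, 1, 0, 0, 1, 1, 1, 1], [12], []), some ([1, 1, 0, 0, 4, 1, 1], [12], [])]),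
  ([12, 16], [some ([], [12, 16], []), some ([1, 1, 0, 0, 1, 1, 1, 1], [12, 16], [21, 23, 23]), some ([1, 1, 1, 1, 0, 0, 1, 1], [12, 16], [21, 23])]),
  ([12, 19], [some ([], [12, 19], []), some ([3, 3], [12, 19], []), some ([3, 3, 3, 3], [12, 19], [])]),
  ([12, 19, 16], [some ([], [12, 19, 16], []), some ([3, 3], [12, 19, 16], [17, 17, 23, 23]), some ([3, 3, 3, 3], [12, 19, 16], [17, 23])]),
  ([12, 19, 16, 16], [some ([], [12, 19, 16, 16], []), some ([3, 3], [12, 19, 16, 16], [17, 23]), some ([3, 3, 3, 3], [12, 19, 16, 16], [17, 17, 23, 23])]),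
  ([13], [some ([], [13], []), some ([], [13, 20], []), some ([4], [13, 20], [])]),
  ([13, 15], [some ([], [13, 15], []), some ([0, 0, 0, 0], [13, 15], []), some ([0, 0], [13, 15], [])]),
  ([13, 19], [some ([], [13, 19], []), some ([3, 3], [13, 19], []), some ([3, 3, 3, 3], [13, 19], [])]),
  ([13, 19, 15], [some ([], [13, 19, 15], []), some ([3, 3], [13, 19, 15], []), some ([0, 0], [13, 19, 15], [])]),
  ([13, 19, 15, 15], [some ([], [13, 19, 15, 15], []), some ([0, 0], [13, 19, 15, 15], []), some ([0, 0, 0, 0], [13, 19, 15, 15], [])]),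
  ([13, 12], [some ([], [13, 12], []), some ([1, 1, 0, 0, 1, 1, 1, 1], [13, 12], [21, 21, 22]), some ([1, 1, 0, 0, 4, 1, 1], [13, 12], [21, 21, 22])]),
  ([13, 12, 16], [some ([], [13, 12, 16], []), some ([1, 1, 0, 0, 1, 1, 1, 1], [13, 12, 16], [22, 23, 23]), some ([1, 1, 1, 1, 0, 0, 1, 1], [13, 12, 16], [21, 21, 22, 22, 23])]),
  ([13, 12, 19], [some ([], [13, 12, 19], []), some ([3, 3], [13, 12, 19], []), some ([3, 3, 3, 3], [13, 12, 19], [])]),
  ([13, 12, 19, 16], [some ([], [13, 12, 19, 16], []), some ([3, 3], [13, 12, 19, 16], [17, 17, 23, 23]), some ([3, 3, 3, 3], [13, 12, 19, 16], [17, 23])]),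
  ([13, 12, 19, 16, 16], [some ([], [13, 12, 19, 16, 16], []), some ([3, 3], [13, 12, 19, 16, 16], [17, 23]), some ([3, 3, 3, 3], [13, 12, 19, 16, 16], [17, 17, 23, 23])]),
  ([13, 12, 12], [some ([], [13, 12, 12], []), some ([1, 1, 0, 0, 4, 1, 1], [13, 12, 12], [21, 21, 22, 22]), some ([1, 1, 0, 0, 1, 1, 1, 1], [13, 12, 12], [21, 21, 22, 22])]),
  ([13, 12, 12, 16], [some ([], [13, 12, 12, 16], []), some ([1, 1, 1, 1, 0, 0, 1, 1], [13, 12, 12, 16], [21, 21, 22, 23, 23]), some ([1, 1, 0, 0, 1, 1, 1, 1], [13, 12, 12, 16], [22, 22, 23])]),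
  ([13, 12, 12, 19], [some ([], [13, 12, 12, 19], []), some ([3, 3], [13, 12, 12, 19], []), some ([3, 3, 3, 3], [13, 12, 12, 19], [])]),
  ([13, 12, 12, 19, 16], [some ([], [13, 12, 12, 19, 16], []), some ([3, 3], [13, 12, 12, 19, 16], [17, 17, 23, 23]), some ([3, 3, 3, 3], [13, 12, 12, 19, 16], [17, 23])]),
  ([13, 12, 12, 19, 16, 16], [some ([], [13, 12, 12, 19, 16, 16], []), some ([3, 3], [13, 12, 12, 19, 16, 16], [17, 23]), some ([3, 3, 3, 3], [13, 12, 12, 19, 16, 16], [17, 17, 23, 23])]),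
  ([14], [some ([], [14], []), some ([], [14, 20], []), some ([], [14, 20, 20], [])]),
  ([14, 12], [some ([], [14, 12], []), some ([0, 0, 0, 0, 1, 1, 0, 0, 3, 3], [14, 12], []), some ([0, 0, 1, 1, 0, 0, 0, 0, 3, 3], [14, 12], [])]),
  ([14, 13], [some ([], [14, 13], []), some ([], [14, 13, 20], []), some ([], [14, 13, 20, 20], [])]),
  ([14, 13, 12], [some ([], [14, 13, 12], []), some ([0, 0, 0, 0, 1, 1, 0, 0, 1, 1, 1, 1], [14, 13, 12], [21, 21, 22]), some ([0, 0, 0, 0, 1, 1, 1, 1, 0, 0, 1, 1], [14, 13, 12], [21, 22, 22])]),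
  ([14, 13, 12, 12], [some ([], [14, 13, 12, 12], []), some ([0, 0, 0, 0, 1, 1, 1, 1, 0, 0, 1, 1], [14, 13, 12, 12], [21, 22]), some ([0, 0, 0, 0, 1, 1, 0, 0, 1, 1, 1, 1], [14, 13, 12, 12], [21, 21, 22, 22])]),
  ([18], [some ([], [18], []), some ([1, 1, 3, 3, 1, 1, 1, 1], [18], []), some ([1, 1, 1, 1, 3, 3, 1, 1], [18], [])]),
  ([18, 16], [some ([], [18, 16], []), some ([1, 1, 3, 3, 1, 1, 1, 1], [18, 16], [17, 17, 23, 23]), some ([1, 1, 1, 1, 3, 3, 1, 1], [18, 16], [17, 17, 23])]),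
  ([18, 15], [some ([], [18, 15], []), some ([0, 0, 0, 0], [18, 15], []), some ([0, 0], [18, 15], [])]),
  ([18, 15, 16], [some ([], [18, 15, 16], []), some ([0, 0, 0, 0], [18, 15, 16], [21, 21, 23, 23]), some ([0, 0], [18, 15, 16], [21, 23])]),
  ([18, 15, 16, 16], [some ([], [18, 15, 16, 16], []), some ([0, 0, 0, 0], [18, 15, 16, 16], [21, 23]), some ([0, 0], [18, 15, 16, 16], [21, 21, 23, 23])]),
  ([18, 12], [some ([], [18, 12], []), some ([1, 1, 0, 0, 1, 1, 1, 1], [18, 12], []), some ([1, 1, 0, 0, 4, 1, 1], [18, 12], [])]),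
  ([18, 12, 16], [some ([], [18, 12, 16], []), some ([1, 1, 0, 0, 1, 1, 1, 1], [18, 12, 16], [21, 23, 23]), some ([1, 1, 1, 1, 0, 0, 1, 1], [18, 12, 16], [21, 23])]),
  ([18, 12, 15], [some ([], [18, 12, 15], []), some ([0, 0, 0, 0], [18, 12, 15], []), some ([0, 0], [18, 12, 15], [])]),
  ([18, 12, 15, 16], [some ([], [18, 12, 15, 16], []), some ([0, 0, 0, 0], [18, 12, 15, 16], [21, 21, 23, 23]), some ([0, 0], [18, 12, 15, 16], [21, 23])]),
  ([18, 12, 15, 16, 16], [some ([], [18, 12, 15, 16, 16], []), some ([0, 0, 0, 0], [18, 12, 15, 16, 16], [21, 23]), some ([0, 0], [18, 12, 15, 16, 16], [21, 21, 23, 23])]),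
  ([18, 12, 12], [some ([], [18, 12, 12], []), some ([1, 1, 0, 0, 4, 1, 1], [18, 12, 12], []), some ([1, 1, 0, 0, 1, 1, 1, 1], [18, 12, 12], [])]),
  ([18, 12, 12, 16], [some ([], [18, 12, 12, 16], []), some ([1, 1, 1, 1, 0, 0, 1, 1], [18, 12, 12, 16], [21, 23, 23]), some ([1, 1, 0, 0, 1, 1, 1, 1], [18, 12, 12, 16], [21, 23])]),
  ([18, 12, 12, 15], [some ([], [18, 12, 12, 15], []), some ([0, 0, 0, 0], [18, 12, 12, 15], []), some ([0, 0], [18, 12, 12, 15], [])]),
  ([18, 12, 12, 15, 16], [some ([], [18, 12, 12, 15, 16], []), some ([0, 0, 0, 0], [18, 12, 12, 15, 16], [21, 21, 23, 23]), some ([0, 0], [18, 12, 12, 15, 16], [21, 23])]),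
  ([18, 12, 12, 15, 16, 16], [some ([], [18, 12, 12, 15, 16, 16], []), some ([0, 0, 0, 0], [18, 12, 12, 15, 16, 16], [21, 23]), some ([0, 0], [18, 12, 12, 15, 16, 16], [21, 21, 23, 23])]),
  ([18, 13], [some ([], [18, 13], []), some ([1, 1, 3, 3, 1, 1, 1, 1], [18, 13], [17, 22]), some ([1, 1, 1, 1, 3, 3, 1, 1], [18, 13], [17, 17, 22, 22])]),
  ([18, 13, 16], [some ([], [18, 13, 16], []), some ([1, 1, 3, 3, 1, 1, 1, 1], [18, 13, 16], [22, 23, 23]), some ([1, 1, 1, 1, 3, 3, 1, 1], [18, 13, 16], [17, 22, 22, 23])]),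
  ([18, 13, 15], [some ([], [18, 13, 15], []), some ([0, 0, 0, 0], [18, 13, 15], []), some ([0, 0], [18, 13, 15], [])]),
  ([18, 13, 15, 16], [some ([], [18, 13, 15, 16], []), some ([0, 0, 0, 0], [18, 13, 15, 16], [21, 21, 23, 23]), some ([0, 0], [18, 13, 15, 16], [21, 23])]),
  ([18, 13, 15, 16, 16], [some ([], [18, 13, 15, 16, 16], []), some ([0, 0, 0, 0], [18, 13, 15, 16, 16], [21, 23]), some ([0, 0], [18, 13, 15, 16, 16], [21, 21, 23, 23])]),
  ([18, 13, 12], [some ([], [18, 13, 12], []), some ([1, 1, 0, 0, 1, 1, 1, 1], [18, 13, 12], [21, 21, 22]), some ([1, 1, 0, 0, 4, 1, 1], [18, 13, 12], [21, 21, 22])]),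
  ([18, 13, 12, 16], [some ([], [18, 13, 12, 16], []), some ([1, 1, 0, 0, 1, 1, 1, 1], [18, 13, 12, 16], [22, 23, 23]), some ([1, 1, 1, 1, 0, 0, 1, 1], [18, 13, 12, 16], [21, 21, 22, 22, 23])]),
  ([18, 13, 12, 15], [some ([], [18, 13, 12, 15], []), some ([0, 0, 0, 0], [18, 13, 12, 15], []), some ([0, 0], [18, 13, 12, 15], [])]),
  ([18, 13, 12, 15, 16], [some ([], [18, 13, 12, 15, 16], []), some ([0, 0, 0, 0], [18, 13, 12, 15, 16], [21, 21, 23, 23]), some ([0, 0], [18, 13, 12, 15, 16], [21, 23])]),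
  ([18, 13, 12, 15, 16, 16], [some ([], [18, 13, 12, 15, 16, 16], []), some ([0, 0, 0, 0], [18, 13, 12, 15, 16, 16], [21, 23]), some ([0, 0], [18, 13, 12, 15, 16, 16], [21, 21, 23, 23])]),
  ([18, 13, 12, 12], [some ([], [18, 13, 12, 12], []), some ([1, 1, 0, 0, 4, 1, 1], [18, 13, 12, 12], [21, 21, 22, 22]), some ([1, 1, 0, 0, 1, 1, 1, 1], [18, 13, 12, 12], [21, 21, 22, 22])]),
  ([18, 13, 12, 12, 16], [some ([], [18, 13, 12, 12, 16], []), some ([1, 1, 1, 1, 0, 0, 1, 1], [18, 13, 12, 12, 16], [21, 21, 22, 23, 23]), some ([1, 1, 0, 0, 1, 1, 1, 1], [18, 13, 12, 12, 16], [22, 22, 23])]),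
  ([18, 13, 12, 12, 15], [some ([], [18, 13, 12, 12, 15], []), some ([0, 0, 0, 0], [18, 13, 12, 12, 15], []), some ([0, 0], [18, 13, 12, 12, 15], [])]),
  ([18, 13, 12, 12, 15, 16], [some ([], [18, 13, 12, 12, 15, 16], []), some ([0, 0, 0, 0], [18, 13, 12, 12, 15, 16], [21, 21, 23, 23]), some ([0, 0], [18, 13, 12, 12, 15, 16], [21, 23])]),
  ([18, 13, 12, 12, 15, 16, 16], [some ([], [18, 13, 12, 12, 15, 16, 16], []), some ([0, 0, 0, 0], [18, 13, 12, 12, 15, 16, 16], [21, 23]), some ([0, 0], [18, 13, 12, 12, 15, 16, 16], [21, 21, 23, 23])]),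
  ([18, 13, 13], [some ([], [18, 13, 13], []), some ([1, 1, 3, 3, 1, 1, 1, 1], [18, 13, 13], [17, 17, 22, 22]), some ([1, 1, 1, 1, 3, 3, 1, 1], [18, 13, 13], [17, 22])]),
  ([18, 13, 13, 16], [some ([], [18, 13, 13, 16], []), some ([1, 1, 3, 3, 1, 1, 1, 1], [18, 13, 13, 16], [17, 22, 22, 23, 23]), some ([1, 1, 1, 1, 3, 3, 1, 1], [18, 13, 13, 16], [22, 23])]),
  ([18, 13, 13, 15], [some ([], [18, 13, 13, 15], []), some ([0, 0, 0, 0], [18, 13, 13, 15], []), some ([0, 0], [18, 13, 13, 15], [])]),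
  ([18, 13, 13, 15, 16], [some ([], [18, 13, 13, 15, 16], []), some ([0, 0, 0, 0], [18, 13, 13, 15, 16], [21, 21, 23, 23]), some ([0, 0], [18, 13, 13, 15, 16], [21, 23])]),
  ([18, 13, 13, 15, 16, 16], [some ([], [18, 13, 13, 15, 16, 16], []), some ([0, 0, 0, 0], [18, 13, 13, 15, 16, 16], [21, 23]), some ([0, 0], [18, 13, 13, 15, 16, 16], [21, 21, 23, 23])]),
  ([18, 13, 13, 12], [some ([], [18, 13, 13, 12], []), some ([1, 1, 0, 0, 1, 1, 1, 1], [18, 13, 13, 12], [21, 22, 22]), some ([1, 1, 0, 0, 4, 1, 1], [18, 13, 13, 12], [21, 22, 22])]),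
  ([18, 13, 13, 12, 16], [some ([], [18, 13, 13, 12, 16], []), some ([1, 1, 0, 0, 1, 1, 1, 1], [18, 13, 13, 12, 16], [21, 21, 22, 22, 23, 23]), some ([1, 1, 1, 1, 0, 0, 1, 1], [18, 13, 13, 12, 16], [22, 23])]),
  ([18, 13, 13, 12, 15], [some ([], [18, 13, 13, 12, 15], []), some ([0, 0, 0, 0], [18, 13, 13, 12, 15], []), some ([0, 0], [18, 13, 13, 12, 15], [])]),
  ([18, 13, 13, 12, 15, 16], [some ([], [18, 13, 13, 12, 15, 16], []), some ([0, 0, 0, 0], [18, 13, 13, 12, 15, 16], [21, 21, 23, 23]), some ([0, 0], [18, 13, 13, 12, 15, 16], [21, 23])]),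
  ([18, 13, 13, 12, 15, 16, 16], [some ([], [18, 13, 13, 12, 15, 16, 16], []), some ([0, 0, 0, 0], [18, 13, 13, 12, 15, 16, 16], [21, 23]), some ([0, 0], [18, 13, 13, 12, 15, 16, 16], [21, 21, 23, 23])]),
  ([18, 13, 13, 12, 12], [some ([], [18, 13, 13, 12, 12], []), some ([1, 1, 0, 0, 4, 1, 1], [18, 13, 13, 12, 12], [21, 22]), some ([1, 1, 0, 0, 1, 1, 1, 1], [18, 13, 13, 12, 12], [21, 22])]),
  ([18, 13, 13, 12, 12, 16], [some ([], [18, 13, 13, 12, 12, 16], []), some ([1, 1, 1, 1, 0, 0, 1, 1], [18, 13, 13, 12, 12, 16], [22, 22, 23, 23]), some ([1, 1, 0, 0, 1, 1, 1, 1], [18, 13, 13, 12, 12, 16], [21, 21, 22, 23])]),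
  ([18, 13, 13, 12, 12, 15], [some ([], [18, 13, 13, 12, 12, 15], []), some ([0, 0, 0, 0], [18, 13, 13, 12, 12, 15], []), some ([0, 0], [18, 13, 13, 12, 12, 15], [])]),
  ([18, 13, 13, 12, 12, 15, 16], [some ([], [18, 13, 13, 12, 12, 15, 16], []), some ([0, 0, 0, 0], [18, 13, 13, 12, 12, 15, 16], [21, 21, 23, 23]), some ([0, 0], [18, 13, 13, 12, 12, 15, 16], [21, 23])]),
  ([18, 13, 13, 12, 12, 15, 16, 16], [some ([], [18, 13, 13, 12, 12, 15, 16, 16], []), some ([0, 0, 0, 0], [18, 13, 13, 12, 12, 15, 16, 16], [21, 23]), some ([0, 0], [18, 13, 13, 12, 12, 15, 16, 16], [21, 21, 23, 23])]),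
  ([18, 14], [some ([], [18, 14], []), some ([0, 0, 3, 3, 3, 3, 1, 1, 3, 3], [18, 14], []), some ([0, 0, 3, 3, 1, 1, 3, 3, 3, 3], [18, 14], [])]),
  ([18, 14, 12], [none, none, none]),
  ([18, 14, 12, 12], [none, none, none]),
  ([18, 14, 13], [some ([], [18, 14, 13], []), some ([0, 0, 2, 2, 3, 3, 3, 3, 1, 1, 3, 3], [18, 14, 13], [21, 17, 22, 22, 23, 23]), some ([0, 0, 2, 2, 3, 3, 1, 1, 3, 3, 3, 3], [18, 14, 13], [21, 17, 17, 22, 23])]),
  ([18, 14, 13, 12], [none, none, none]),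
  ([18, 14, 13, 12, 12], [none, none, none]),
  ([18, 14, 13, 13], [some ([], [18, 14, 13, 13], []), some ([1, 1, 1, 1, 3, 3, 3, 3, 1, 1, 3, 3], [18, 14, 13, 13], [17, 17, 22, 22]), some ([1, 1, 1, 1, 3, 3, 1, 1, 3, 3, 3, 3], [18, 14, 13, 13], [17, 22])]),
  ([18, 14, 13, 13, 12], [none, none, none]),
  ([18, 14, 13, 13, 12, 12], [none, none, none])]

/-- Level 8. -/
def step8 : List (List ℕ × List (Option (List ℕ × List ℕ × List ℕ))) := [
  ([], [some ([], [], []), some ([], [21], []), some ([4], [21], [])]),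
  ([20], [some ([], [20], []), some ([], [20, 21], []), some ([], [20, 21, 21], [])]),
  ([16], [some ([], [16], []), some ([0, 0, 0, 0], [16], []), some ([0, 0], [16], [])]),
  ([16, 20], [some ([], [16, 20], []), some ([0, 0, 0, 0], [16, 20], []), some ([0, 0], [16, 20], [])]),
  ([15], [some ([], [15], []), some ([], [15, 21], []), some ([4, 5], [15, 21], [])]),
  ([15, 16], [some ([], [15, 16], []), some ([], [15, 16, 21], []), some ([4, 5], [15, 16, 21], [])]),
  ([15, 16, 16], [some ([], [15, 16, 16], []), some ([], [15, 16, 16, 21], []), some ([4, 5], [15, 16, 16, 21], [])]),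
  ([19], [some ([], [19], []), some ([2, 2], [19], []), some ([2, 2, 2, 2], [19], [])]),
  ([19, 16], [some ([], [19, 16], []), some ([2, 2], [19, 16], []), some ([0, 0], [19, 16], [])]),
  ([19, 16, 16], [some ([], [19, 16, 16], []), some ([0, 0], [19, 16, 16], []), some ([0, 0, 0, 0], [19, 16, 16], [])]),
  ([19, 15], [some ([], [19, 15], []), some ([2, 2], [19, 15], [17, 17, 23, 23]), some ([2, 2, 2, 2], [19, 15], [17, 23])]),
  ([19, 15, 16], [some ([], [19, 15, 16], []), some ([2, 2], [19, 15, 16], [17, 17, 23, 23]), some ([0, 0, 3, 3], [19, 15, 16], [17, 17])]),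
  ([19, 15, 16, 16], [some ([], [19, 15, 16, 16], []), some ([2, 2], [19, 15, 16, 16], [17, 17, 23, 23]), some ([2, 2, 2, 2], [19, 15, 16, 16], [17, 23])]),
  ([19, 15, 15], [some ([], [19, 15, 15], []), some ([2, 2], [19, 15, 15], [17, 23]), some ([2, 2, 2, 2], [19, 15, 15], [17, 17, 23, 23])]),
  ([19, 15, 15, 16], [some ([], [19, 15, 15, 16], []), some ([2, 2], [19, 15, 15, 16], [17, 23]), some ([2, 2, 2, 2], [19, 15, 15, 16], [17, 17, 23, 23])]),
  ([19, 15, 15, 16, 16], [some ([], [19, 15, 15, 16, 16], []), some ([2, 2], [19, 15, 15, 16, 16], [17, 23]), some ([2, 2, 2, 2], [19, 15, 15, 16, 16], [17, 17, 23, 23])]),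
  ([12], [some ([], [12], []), some ([], [12, 21], []), some ([4], [12, 21], [])]),
  ([12, 16], [some ([], [12, 16], []), some ([0, 0, 0, 0], [12, 16], []), some ([0, 0], [12, 16], [])]),
  ([12, 19], [some ([], [12, 19], []), some ([2, 2], [12, 19], []), some ([2, 2, 2, 2], [12, 19], [])]),
  ([12, 19, 16], [some ([], [12, 19, 16], []), some ([2, 2], [12, 19, 16], []), some ([0, 0], [12, 19, 16], [])]),
  ([12, 19, 16, 16], [some ([], [12, 19, 16, 16], []), some ([0, 0], [12, 19, 16, 16], []), some ([0, 0, 0, 0], [12, 19, 16, 16], [])]),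
  ([13], [some ([], [13], []), some ([1, 1, 0, 0, 1, 1, 1, 1], [13], []), some ([1, 1, 0, 0, 4, 1, 1], [13], [])]),
  ([13, 20], [some ([], [13, 20], []), some ([1, 1, 0, 0, 1, 1, 1, 1], [13, 20], []), some ([1, 1, 1, 1, 0, 0, 1, 1], [13, 20], [])]),
  ([13, 15], [some ([], [13, 15], []), some ([0, 0, 0, 0, 1, 1, 0, 0, 1, 1, 1, 1], [13, 15], [23, 23]), some ([0, 0, 0, 0, 1, 1, 1, 1, 0, 0, 1, 1], [13, 15], [23])]),
  ([13, 19], [some ([], [13, 19], []), some ([2, 2], [13, 19], []), some ([2, 2, 2, 2], [13, 19], [])]),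
  ([13, 19, 15], [some ([], [13, 19, 15], []), some ([2, 2], [13, 19, 15], [17, 17, 23, 23]), some ([2, 2, 2, 2], [13, 19, 15], [17, 23])]),
  ([13, 19, 15, 15], [some ([], [13, 19, 15, 15], []), some ([2, 2], [13, 19, 15, 15], [17, 23]), some ([2, 2, 2, 2], [13, 19, 15, 15], [17, 17, 23, 23])]),
  ([13, 12], [some ([], [13, 12], []), some ([], [13, 12, 21], []), some ([4], [13, 12, 21], [])]),
  ([13, 12, 16], [some ([], [13, 12, 16], []), some ([0, 0, 0, 0], [13, 12, 16], []), some ([0, 0], [13, 12, 16], [])]),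
  ([13, 12, 19], [some ([], [13, 12, 19], []), some ([2, 2], [13, 12, 19], []), some ([2, 2, 2, 2], [13, 12, 19], [])]),
  ([13, 12, 19, 16], [some ([], [13, 12, 19, 16], []), some ([2, 2], [13, 12, 19, 16], []), some ([0, 0], [13, 12, 19, 16], [])]),
  ([13, 12, 19, 16, 16], [some ([], [13, 12, 19, 16, 16], []), some ([0, 0], [13, 12, 19, 16, 16], []), some ([0, 0, 0, 0], [13, 12, 19, 16, 16], [])]),
  ([13, 12, 12], [some ([], [13, 12, 12], []), some ([], [13, 12, 12, 21], []), some ([4], [13, 12, 12, 21], [])]),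
  ([13, 12, 12, 16], [some ([], [13, 12, 12, 16], []), some ([0, 0, 0, 0], [13, 12, 12, 16], []), some ([0, 0], [13, 12, 12, 16], [])]),
  ([13, 12, 12, 19], [some ([], [13, 12, 12, 19], []), some ([2, 2], [13, 12, 12, 19], []), some ([2, 2, 2, 2], [13, 12, 12, 19], [])]),
  ([13, 12, 12, 19, 16], [some ([], [13, 12, 12, 19, 16], []), some ([2, 2], [13, 12, 12, 19, 16], []), some ([0, 0], [13, 12, 12, 19, 16], [])]),
  ([13, 12, 12, 19, 16, 16], [some ([], [13, 12, 12, 19, 16, 16], []), some ([0, 0], [13, 12, 12, 19, 16, 16], []), some ([0, 0, 0, 0], [13, 12, 12, 19, 16, 16], [])]),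
  ([14], [some ([], [14], []), some ([], [14, 21], []), some ([], [14, 21, 21], [])]),
  ([14, 20], [some ([], [14, 20], []), some ([], [14, 20, 21], []), some ([], [14, 20, 21, 21], [])]),
  ([14, 20, 20], [some ([], [14, 20, 20], []), some ([], [14, 20, 20, 21], []), some ([], [14, 20, 20, 21, 21], [])]),
  ([14, 12], [some ([], [14, 12], []), some ([], [14, 12, 21], []), some ([], [14, 12, 21, 21], [])]),
  ([14, 13], [some ([], [14, 13], []), some ([0, 0, 0, 0, 1, 1, 0, 0, 2, 2], [14, 13], []), some ([0, 0, 1, 1, 0, 0, 0, 0, 2, 2], [14, 13], [])]),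
  ([14, 13, 20], [some ([], [14, 13, 20], []), some ([0, 0, 0, 0, 1, 1, 0, 0, 2, 2], [14, 13, 20], [22, 22, 23]), some ([0, 0, 1, 1, 0, 0, 0, 0, 2, 2], [14, 13, 20], [22, 22, 23])]),
  ([14, 13, 20, 20], [some ([], [14, 13, 20, 20], []), some ([0, 0, 0, 0, 1, 1, 0, 0, 2, 2], [14, 13, 20, 20], [22, 23, 23]), some ([0, 0, 1, 1, 0, 0, 0, 0, 2, 2], [14, 13, 20, 20], [22, 23, 23])]),
  ([14, 13, 12], [some ([], [14, 13, 12], []), some ([], [14, 13, 12, 21], []), some ([], [14, 13, 12, 21, 21], [])]),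
  ([14, 13, 12, 12], [some ([], [14, 13, 12, 12], []), some ([], [14, 13, 12, 12, 21], []), some ([], [14, 13, 12, 12, 21, 21], [])]),
  ([18], [some ([], [18], []), some ([1, 1, 2, 2, 1, 1, 1, 1], [18], []), some ([1, 1, 1, 1, 2, 2, 1, 1], [18], [])]),
  ([18, 16], [some ([], [18, 16], []), some ([0, 0, 0, 0], [18, 16], []), some ([0, 0], [18, 16], [])]),
  ([18, 15], [some ([], [18, 15], []), some ([1, 1, 2, 2, 1, 1, 1, 1], [18, 15], [17, 17, 23, 23]), some ([1, 1, 1, 1, 2, 2, 1, 1], [18, 15], [17, 17, 23])]),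
  ([18, 15, 16], [some ([], [18, 15, 16], []), some ([1, 1, 2, 2, 1, 1, 1, 1], [18, 15, 16], [17, 17, 23, 23]), some ([1, 1, 1, 1, 2, 2, 1, 1], [18, 15, 16], [17, 17, 23])]),
  ([18, 15, 16, 16], [some ([], [18, 15, 16, 16], []), some ([1, 1, 2, 2, 1, 1, 1, 1], [18, 15, 16, 16], [17, 17, 23, 23]), some ([1, 1, 1, 1, 2, 2, 1, 1], [18, 15, 16, 16], [17, 17, 23])]),
  ([18, 12], [some ([], [18, 12], []), some ([1, 1, 2, 2, 1, 1, 1, 1], [18, 12], [17, 22]), some ([1, 1, 1, 1, 2, 2, 1, 1], [18, 12], [17, 17, 22, 22])]),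
  ([18, 12, 16], [some ([], [18, 12, 16], []), some ([0, 0, 0, 0], [18, 12, 16], []), some ([0, 0], [18, 12, 16], [])]),
  ([18, 12, 15], [some ([], [18, 12, 15], []), some ([1, 1, 2, 2, 1, 1, 1, 1], [18, 12, 15], [22, 23, 23]), some ([1, 1, 1, 1, 2, 2, 1, 1], [18, 12, 15], [17, 22, 22, 23])]),
  ([18, 12, 15, 16], [some ([], [18, 12, 15, 16], []), some ([1, 1, 2, 2, 1, 1, 1, 1], [18, 12, 15, 16], [22, 23, 23]), some ([1, 1, 0, 0, 1, 1, 1, 1], [18, 12, 15, 16], [])]),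
  ([18, 12, 15, 16, 16], [some ([], [18, 12, 15, 16, 16], []), some ([1, 1, 0, 0, 1, 1, 1, 1], [18, 12, 15, 16, 16], []), some ([1, 1, 1, 1, 2, 2, 1, 1], [18, 12, 15, 16, 16], [17, 22, 22, 23])]),
  ([18, 12, 12], [some ([], [18, 12, 12], []), some ([1, 1, 2, 2, 1, 1, 1, 1], [18, 12, 12], [17, 17, 22, 22]), some ([1, 1, 1, 1, 2, 2, 1, 1], [18, 12, 12], [17, 22])]),
  ([18, 12, 12, 16], [some ([], [18, 12, 12, 16], []), some ([0, 0, 0, 0], [18, 12, 12, 16], []), some ([0, 0], [18, 12, 12, 16], [])]),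
  ([18, 12, 12, 15], [some ([], [18, 12, 12, 15], []), some ([1, 1, 2, 2, 1, 1, 1, 1], [18, 12, 12, 15], [17, 22, 22, 23, 23]), some ([1, 1, 1, 1, 2, 2, 1, 1], [18, 12, 12, 15], [22, 23])]),
  ([18, 12, 12, 15, 16], [some ([], [18, 12, 12, 15, 16], []), some ([1, 1, 2, 2, 1, 1, 1, 1], [18, 12, 12, 15, 16], [17, 22, 22, 23, 23]), some ([1, 1, 1, 1, 0, 0, 1, 1], [18, 12, 12, 15, 16], [])]),
  ([18, 12, 12, 15, 16, 16], [some ([], [18, 12, 12, 15, 16, 16], []), some ([1, 1, 1, 1, 0, 0, 1, 1], [18, 12, 12, 15, 16, 16], []), some ([1, 1, 1, 1, 2, 2, 1, 1], [18, 12, 12, 15, 16, 16], [22, 23])]),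
  ([18, 13], [some ([], [18, 13], []), some ([1, 1, 0, 0, 1, 1, 1, 1], [18, 13], []), some ([1, 1, 0, 0, 4, 1, 1], [18, 13], [])]),
  ([18, 13, 16], [some ([], [18, 13, 16], []), some ([0, 0, 0, 0], [18, 13, 16], []), some ([0, 0], [18, 13, 16], [])]),
  ([18, 13, 15], [some ([], [18, 13, 15], []), some ([1, 1, 2, 2, 1, 1, 1, 1], [18, 13, 15], [17, 17, 23, 23]), some ([1, 1, 1, 1, 2, 2, 1, 1], [18, 13, 15], [17, 17, 23])]),
  ([18, 13, 15, 16], [some ([], [18, 13, 15, 16], []), some ([1, 1, 2, 2, 1, 1, 1, 1], [18, 13, 15, 16], [17, 17, 23, 23]), some ([1, 1, 1, 1, 2, 2, 1, 1], [18, 13, 15, 16], [17, 17, 23])]),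
  ([18, 13, 15, 16, 16], [some ([], [18, 13, 15, 16, 16], []), some ([1, 1, 2, 2, 1, 1, 1, 1], [18, 13, 15, 16, 16], [17, 17, 23, 23]), some ([1, 1, 1, 1, 2, 2, 1, 1], [18, 13, 15, 16, 16], [17, 17, 23])]),
  ([18, 13, 12], [some ([], [18, 13, 12], []), some ([1, 1, 2, 2, 1, 1, 1, 1], [18, 13, 12], [17, 22]), some ([1, 1, 1, 1, 2, 2, 1, 1], [18, 13, 12], [17, 17, 22, 22])]),
  ([18, 13, 12, 16], [some ([], [18, 13, 12, 16], []), some ([0, 0, 0, 0], [18, 13, 12, 16], []), some ([0, 0], [18, 13, 12, 16], [])]),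
  ([18, 13, 12, 15], [some ([], [18, 13, 12, 15], []), some ([1, 1, 0, 0, 1, 1, 1, 1], [18, 13, 12, 15], [22, 23, 23]), some ([1, 1, 1, 1, 2, 2, 1, 1], [18, 13, 12, 15], [17, 22, 22, 23])]),
  ([18, 13, 12, 15, 16], [some ([], [18, 13, 12, 15, 16], []), some ([1, 1, 2, 2, 1, 1, 1, 1], [18, 13, 12, 15, 16], [22, 23, 23]), some ([1, 1, 1, 1, 2, 2, 1, 1], [18, 13, 12, 15, 16], [17, 22, 22, 23])]),
  ([18, 13, 12, 15, 16, 16], [some ([], [18, 13, 12, 15, 16, 16], []), some ([1, 1, 2, 2, 1, 1, 1, 1], [18, 13, 12, 15, 16, 16], [22, 23, 23]), some ([1, 1, 0, 0, 1, 1, 1, 1], [18, 13, 12, 15, 16, 16], [22, 23, 23])]),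
  ([18, 13, 12, 12], [some ([], [18, 13, 12, 12], []), some ([1, 1, 2, 2, 1, 1, 1, 1], [18, 13, 12, 12], [17, 17, 22, 22]), some ([1, 1, 1, 1, 2, 2, 1, 1], [18, 13, 12, 12], [17, 22])]),
  ([18, 13, 12, 12, 16], [some ([], [18, 13, 12, 12, 16], []), some ([0, 0, 0, 0], [18, 13, 12, 12, 16], []), some ([0, 0], [18, 13, 12, 12, 16], [])]),
  ([18, 13, 12, 12, 15], [some ([], [18, 13, 12, 12, 15], []), some ([1, 1, 2, 2, 1, 1, 1, 1], [18, 13, 12, 12, 15], [17, 22, 22, 23, 23]), some ([1, 1, 1, 1, 0, 0, 1, 1], [18, 13, 12, 12, 15], [22, 23])]),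
  ([18, 13, 12, 12, 15, 16], [some ([], [18, 13, 12, 12, 15, 16], []), some ([1, 1, 1, 1, 0, 0, 1, 1], [18, 13, 12, 12, 15, 16], [22, 23]), some ([1, 1, 1, 1, 2, 2, 1, 1], [18, 13, 12, 12, 15, 16], [22, 23])]),
  ([18, 13, 12, 12, 15, 16, 16], [some ([], [18, 13, 12, 12, 15, 16, 16], []), some ([1, 1, 2, 2, 1, 1, 1, 1], [18, 13, 12, 12, 15, 16, 16], [17, 22, 22, 23, 23]), some ([1, 1, 1, 1, 2, 2, 1, 1], [18, 13, 12, 12, 15, 16, 16], [22, 23])]),
  ([18, 13, 13], [some ([], [18, 13, 13], []), some ([1, 1, 0, 0, 4, 1, 1], [18, 13, 13], []), some ([1, 1, 0, 0, 1, 1, 1, 1], [18, 13, 13], [])]),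
  ([18, 13, 13, 16], [some ([], [18, 13, 13, 16], []), some ([0, 0, 0, 0], [18, 13, 13, 16], []), some ([0, 0], [18, 13, 13, 16], [])]),
  ([18, 13, 13, 15], [some ([], [18, 13, 13, 15], []), some ([1, 1, 2, 2, 1, 1, 1, 1], [18, 13, 13, 15], [17, 17, 23, 23]), some ([1, 1, 1, 1, 2, 2, 1, 1], [18, 13, 13, 15], [17, 17, 23])]),
  ([18, 13, 13, 15, 16], [some ([], [18, 13, 13, 15, 16], []), some ([1, 1, 2, 2, 1, 1, 1, 1], [18, 13, 13, 15, 16], [17, 17, 23, 23]), some ([1, 1, 1, 1, 2, 2, 1, 1], [18, 13, 13, 15, 16], [17, 17, 23])]),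
  ([18, 13, 13, 15, 16, 16], [some ([], [18, 13, 13, 15, 16, 16], []), some ([1, 1, 2, 2, 1, 1, 1, 1], [18, 13, 13, 15, 16, 16], [17, 17, 23, 23]), some ([1, 1, 1, 1, 2, 2, 1, 1], [18, 13, 13, 15, 16, 16], [17, 17, 23])]),
  ([18, 13, 13, 12], [some ([], [18, 13, 13, 12], []), some ([1, 1, 2, 2, 1, 1, 1, 1], [18, 13, 13, 12], [17, 22]), some ([1, 1, 1, 1, 2, 2, 1, 1], [18, 13, 13, 12], [17, 17, 22, 22])]),
  ([18, 13, 13, 12, 16], [some ([], [18, 13, 13, 12, 16], []), some ([0, 0, 0, 0], [18, 13, 13, 12, 16], []), some ([0, 0], [18, 13, 13, 12, 16], [])]),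
  ([18, 13, 13, 12, 15], [some ([], [18, 13, 13, 12, 15], []), some ([1, 1, 2, 2, 1, 1, 1, 1], [18, 13, 13, 12, 15], [22, 23, 23]), some ([1, 1, 0, 0, 1, 1, 1, 1], [18, 13, 13, 12, 15], [22, 22, 23])]),
  ([18, 13, 13, 12, 15, 16], [some ([], [18, 13, 13, 12, 15, 16], []), some ([1, 1, 0, 0, 1, 1, 1, 1], [18, 13, 13, 12, 15, 16], [22, 22, 23]), some ([1, 1, 1, 1, 2, 2, 1, 1], [18, 13, 13, 12, 15, 16], [17, 22, 22, 23])]),
  ([18, 13, 13, 12, 15, 16, 16], [some ([], [18, 13, 13, 12, 15, 16, 16], []), some ([1, 1, 2, 2, 1, 1, 1, 1], [18, 13, 13, 12, 15, 16, 16], [22, 23, 23]), some ([1, 1, 1, 1, 2, 2, 1, 1], [18, 13, 13, 12, 15, 16, 16], [17, 22, 22, 23])]),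
  ([18, 13, 13, 12, 12], [some ([], [18, 13, 13, 12, 12], []), some ([1, 1, 2, 2, 1, 1, 1, 1], [18, 13, 13, 12, 12], [17, 17, 22, 22]), some ([1, 1, 1, 1, 2, 2, 1, 1], [18, 13, 13, 12, 12], [17, 22])]),
  ([18, 13, 13, 12, 12, 16], [some ([], [18, 13, 13, 12, 12, 16], []), some ([0, 0, 0, 0], [18, 13, 13, 12, 12, 16], []), some ([0, 0], [18, 13, 13, 12, 12, 16], [])]),
  ([18, 13, 13, 12, 12, 15], [some ([], [18, 13, 13, 12, 12, 15], []), some ([1, 1, 1, 1, 0, 0, 1, 1], [18, 13, 13, 12, 12, 15], [22, 22, 23, 23]), some ([1, 1, 1, 1, 2, 2, 1, 1], [18, 13, 13, 12, 12, 15], [22, 23])]),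
  ([18, 13, 13, 12, 12, 15, 16], [some ([], [18, 13, 13, 12, 12, 15, 16], []), some ([1, 1, 2, 2, 1, 1, 1, 1], [18, 13, 13, 12, 12, 15, 16], [17, 22, 22, 23, 23]), some ([1, 1, 1, 1, 2, 2, 1, 1], [18, 13, 13, 12, 12, 15, 16], [22, 23])]),
  ([18, 13, 13, 12, 12, 15, 16, 16], [some ([], [18, 13, 13, 12, 12, 15, 16, 16], []), some ([1, 1, 2, 2, 1, 1, 1, 1], [18, 13, 13, 12, 12, 15, 16, 16], [17, 22, 22, 23, 23]), some ([1, 1, 1, 1, 0, 0, 1, 1], [18, 13, 13, 12, 12, 15, 16, 16], [22, 22, 23, 23])]),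
  ([18, 14], [some ([], [18, 14], []), some ([0, 0, 2, 2, 2, 2, 1, 1, 2, 2], [18, 14], []), some ([0, 0, 2, 2, 1, 1, 2, 2, 2, 2], [18, 14], [])]),
  ([18, 14, 13], [none, none, none]),
  ([18, 14, 13, 13], [none, none, none])]

end CfsgLib.ThreeTrans.O83
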