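import Cfsg.Agent.Lib.ThreeTrans.O83.Eval
import Cfsg.Agent.Lib.ThreeTrans.O83.StepsA
import Cfsg.Agent.Lib.ThreeTrans.O83.StepsB

set_option autoImplicit false
set_option maxRecDepth 100000

/-!
Kernel checks of the filtration steps 0 to 9 for PΩ⁺(8, 3) (owner: helper18).
-/

namespace CfsgLib.ThreeTrans.O83

set_option maxHeartbeats 0 in
theorem step0_ok : (step0.all fun p => stepOK (level step1) 0 p.1 p.2) = true := by decide +kernel

set_option maxHeartbeats 0 in
theorem step1_ok : (step1.all fun p => stepOK (level step2) 1 p.1 p.2) = true := by decide +kernel

set_option maxHeartbeats 0 in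
theorem step2_ok : (step2.all fun p => stepOK (level step3) 2 p.1 p.2) = true := by decide +kernel

set_option maxHeartbeats 0 in
theorem step3_ok : (step3.all fun p => stepOK (level step4) 3 p.1 p.2) = true := by decide +kernel

set_option maxHeartbeats 0 in
theorem step4_ok : (step4.all fun p => stepOK (level step5) 4 p.1 p.2) = true := by decide +kernel

set_option maxHeartbeats 0 in
theorem step5_ok : (step5.all fun p => stepOK (level step6) 5 p.1 p.2) = true := by decide +kernel

set_option maxHeartbeats 0 in
theorem step6_ok : (step6.all fun p => stepOK (level step7) 6 p.1 p.2) = true := by decide +kernel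

set_option maxHeartbeats 0 in
theorem step7_ok : (step7.all fun p => stepOK (level step8) 7 p.1 p.2) = true := by decide +kernel

set_option maxHeartbeats 0 in
theorem step8_ok : (step8.all fun p => stepOK (level step9) 8 p.1 p.2) = true := by decide +kernel

end CfsgLib.ThreeTrans.O83
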