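import Cfsg.Agent.Lib.ThreeTrans.O83.Enc

set_option autoImplicit false
set_option maxRecDepth 10000

/-!
Data for the classification of the subgroups of order 3 of PΩ⁺(8, 3) (owner: helper18).
Reductions along the filtration: conjugator, representative, remainder; none when the cube is nontrivial.
-/

namespace CfsgLib.ThreeTrans.O83

/-- Level 11. -/
def step11 : List (List ℕ × List (Option (List ℕ × List ℕ × List ℕ))) := [
  ([], [some ([], [], []), some ([], [23], []), some ([5], [23], [])]),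
  ([22], [some ([], [22], []), some ([1, 1], [22], []), some ([1, 1, 1, 1], [22], [])]),
  ([17], [some ([], [17], []), some ([0, 0, 0, 0, 1, 1, 0, 0], [17], []), some ([0, 0, 1, 1, 0, 0, 0, 0], [17], [])]),
  ([21], [some ([], [21], []), some ([3, 3, 1, 1, 3, 3, 3, 3], [21], []), some ([3, 3, 1, 1, 5, 3, 3], [21], [])]),
  ([21, 17], [some ([], [21, 17], []), some ([3, 3, 1, 1, 0, 0], [21, 17], []), some ([0, 0, 1, 1, 3, 3], [21, 17], [])]),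
  ([21, 17, 17], [some ([], [21, 17, 17], []), some ([0, 0, 1, 1, 0, 0, 0, 0], [21, 17, 17], []), some ([0, 0, 0, 0, 1, 1, 0, 0], [21, 17, 17], [])]),
  ([20], [some ([], [20], []), some ([2, 2, 1, 1, 2, 2, 2, 2], [20], []), some ([2, 2, 1, 1, 5, 2, 2], [20], [])]),
  ([20, 17], [some ([], [20, 17], []), some ([2, 2, 1, 1, 0, 0], [20, 17], []), some ([0, 0, 1, 1, 2, 2], [20, 17], [])]),
  ([20, 17, 17], [some ([], [20, 17, 17], []), some ([0, 0, 1, 1, 0, 0, 0, 0], [20, 17, 17], []), some ([0, 0, 0, 0, 1, 1, 0, 0], [20, 17, 17], [])]),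
  ([20, 21], [some ([], [20, 21], []), some ([2, 2, 1, 1, 2, 2, 2, 2], [20, 21], []), some ([2, 2, 1, 1, 5, 2, 2], [20, 21], [])]),
  ([20, 21, 17], [some ([], [20, 21, 17], []), some ([2, 2, 1, 1, 0, 0], [20, 21, 17], []), some ([0, 0, 1, 1, 2, 2], [20, 21, 17], [])]),
  ([20, 21, 17, 17], [some ([], [20, 21, 17, 17], []), some ([0, 0, 1, 1, 0, 0, 0, 0], [20, 21, 17, 17], []), some ([0, 0, 0, 0, 1, 1, 0, 0], [20, 21, 17, 17], [])]),
  ([20, 21, 21], [some ([], [20, 21, 21], []), some ([2, 2, 1, 1, 3, 3], [20, 21, 21], []), some ([3, 3, 1, 1, 2, 2], [20, 21, 21], [])]),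
  ([20, 21, 21, 17], [some ([], [20, 21, 21, 17], []), some ([2, 2, 1, 1, 0, 0], [20, 21, 21, 17], []), some ([0, 0, 1, 1, 2, 2], [20, 21, 21, 17], [])]),
  ([20, 21, 21, 17, 17], [some ([], [20, 21, 21, 17, 17], []), some ([0, 0, 1, 1, 3, 3], [20, 21, 21, 17, 17], []), some ([3, 3, 1, 1, 0, 0], [20, 21, 21, 17, 17], [])]),
  ([16], [some ([], [16], []), some ([0, 0, 0, 0, 3, 3, 1, 1, 0, 0, 3, 3, 3, 3], [16], []), some ([0, 0, 0, 0, 3, 3, 3, 3, 1, 1, 0, 0, 3, 3], [16], [])]),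
  ([16, 22], [some ([], [16, 22], []), some ([1, 1], [16, 22], []), some ([1, 1, 1, 1], [16, 22], [])]),
  ([16, 22, 22], [some ([], [16, 22, 22], []), some ([1, 1, 1, 1], [16, 22, 22], []), some ([1, 1], [16, 22, 22], [])]),
  ([16, 20], [some ([], [16, 20], []), some ([2, 2, 1, 1, 2, 2, 2, 2], [16, 20], []), some ([2, 2, 2, 2, 1, 1, 2, 2], [16, 20], [])]),
  ([15], [some ([], [15], []), some ([0, 0, 0, 0, 2, 2, 1, 1, 0, 0, 2, 2, 2, 2], [15], []), some ([0, 0, 0, 0, 2, 2, 2, 2, 1, 1, 0, 0, 2, 2], [15], [])]),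
  ([15, 22], [some ([], [15, 22], []), some ([1, 1], [15, 22], []), some ([1, 1, 1, 1], [15, 22], [])]),
  ([15, 22, 22], [some ([], [15, 22, 22], []), some ([1, 1, 1, 1], [15, 22, 22], []), some ([1, 1], [15, 22, 22], [])]),
  ([15, 21], [some ([], [15, 21], []), some ([3, 3, 1, 1, 3, 3, 3, 3], [15, 21], []), some ([3, 3, 3, 3, 1, 1, 3, 3], [15, 21], [])]),
  ([15, 16], [some ([], [15, 16], []), some ([0, 0, 0, 0, 2, 2, 1, 1, 0, 0, 2, 2, 2, 2], [15, 16], []), some ([0, 0, 0, 0, 2, 2, 2, 2, 1, 1, 0, 0, 2, 2], [15, 16], [])]),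
  ([15, 16, 22], [some ([], [15, 16, 22], []), some ([1, 1], [15, 16, 22], []), some ([1, 1, 1, 1], [15, 16, 22], [])]),
  ([15, 16, 22, 22], [some ([], [15, 16, 22, 22], []), some ([1, 1, 1, 1], [15, 16, 22, 22], []), some ([1, 1], [15, 16, 22, 22], [])]),
  ([15, 16, 21], [some ([], [15, 16, 21], []), some ([3, 3, 1, 1, 3, 3, 3, 3], [15, 16, 21], []), some ([3, 3, 3, 3, 1, 1, 3, 3], [15, 16, 21], [])]),
  ([15, 16, 16], [some ([], [15, 16, 16], []), some ([0, 0, 0, 0, 2, 2, 1, 1, 0, 0, 3, 3], [15, 16, 16], []), some ([0, 0, 0, 0, 3, 3, 1, 1, 0, 0, 2, 2], [15, 16, 16], [])]),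
  ([15, 16, 16, 22], [some ([], [15, 16, 16, 22], []), some ([1, 1], [15, 16, 16, 22], []), some ([1, 1, 1, 1], [15, 16, 16, 22], [])]),
  ([15, 16, 16, 22, 22], [some ([], [15, 16, 16, 22, 22], []), some ([1, 1, 1, 1], [15, 16, 16, 22, 22], []), some ([1, 1], [15, 16, 16, 22, 22], [])]),
  ([15, 16, 16, 21], [some ([], [15, 16, 16, 21], []), some ([3, 3, 1, 1, 3, 3, 3, 3], [15, 16, 16, 21], []), some ([3, 3, 3, 3, 1, 1, 3, 3], [15, 16, 16, 21], [])]),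
  ([19], [some ([], [19], []), some ([2, 2, 2, 2, 3, 3, 3, 3, 1, 1, 2, 2, 3, 3], [19], []), some ([2, 2, 2, 2, 3, 3, 1, 1, 2, 2, 3, 3, 3, 3], [19], [])]),
  ([19, 22], [some ([], [19, 22], []), some ([1, 1], [19, 22], []), some ([1, 1, 1, 1], [19, 22], [])]),
  ([19, 22, 22], [some ([], [19, 22, 22], []), some ([1, 1, 1, 1], [19, 22, 22], []), some ([1, 1], [19, 22, 22], [])]),
  ([19, 17], [some ([], [19, 17], []), some ([0, 0, 0, 0, 1, 1, 0, 0], [19, 17], []), some ([0, 0, 1, 1, 0, 0, 0, 0], [19, 17], [])]),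
  ([19, 16], [some ([], [19, 16], []), some ([0, 0, 3, 3, 3, 3, 1, 1, 2, 2, 3, 3], [19, 16], []), some ([0, 0, 3, 3, 1, 1, 2, 2, 3, 3, 3, 3], [19, 16], [])]),
  ([19, 16, 22], [some ([], [19, 16, 22], []), some ([1, 1], [19, 16, 22], []), some ([1, 1, 1, 1], [19, 16, 22], [])]),
  ([19, 16, 22, 22], [some ([], [19, 16, 22, 22], []), some ([1, 1, 1, 1], [19, 16, 22, 22], []), some ([1, 1], [19, 16, 22, 22], [])]),
  ([19, 16, 17], [some ([], [19, 16, 17], []), some ([0, 0, 0, 0, 1, 1, 0, 0], [19, 16, 17], []), some ([0, 0, 1, 1, 0, 0, 0, 0], [19, 16, 17], [])]),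
  ([19, 16, 16], [some ([], [19, 16, 16], []), some ([0, 0, 0, 0, 3, 3, 3, 3, 1, 1, 0, 0, 3, 3], [19, 16, 16], []), some ([0, 0, 0, 0, 3, 3, 1, 1, 0, 0, 3, 3, 3, 3], [19, 16, 16], [])]),
  ([19, 16, 16, 22], [some ([], [19, 16, 16, 22], []), some ([1, 1], [19, 16, 16, 22], []), some ([1, 1, 1, 1], [19, 16, 16, 22], [])]),
  ([19, 16, 16, 22, 22], [some ([], [19, 16, 16, 22, 22], []), some ([1, 1, 1, 1], [19, 16, 16, 22, 22], []), some ([1, 1], [19, 16, 16, 22, 22], [])]),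
  ([19, 16, 16, 17], [some ([], [19, 16, 16, 17], []), some ([0, 0, 0, 0, 1, 1, 0, 0], [19, 16, 16, 17], []), some ([0, 0, 1, 1, 0, 0, 0, 0], [19, 16, 16, 17], [])]),
  ([19, 15], [some ([], [19, 15], []), some ([0, 0, 2, 2, 2, 2, 1, 1, 2, 2, 3, 3], [19, 15], []), some ([0, 0, 2, 2, 1, 1, 2, 2, 2, 2, 3, 3], [19, 15], [])]),
  ([19, 15, 22], [some ([], [19, 15, 22], []), some ([1, 1], [19, 15, 22], []), some ([1, 1, 1, 1], [19, 15, 22], [])]),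
  ([19, 15, 22, 22], [some ([], [19, 15, 22, 22], []), some ([1, 1, 1, 1], [19, 15, 22, 22], []), some ([1, 1], [19, 15, 22, 22], [])]),
  ([19, 15, 17], [some ([], [19, 15, 17], []), some ([0, 0, 0, 0, 1, 1, 0, 0], [19, 15, 17], []), some ([0, 0, 1, 1, 0, 0, 0, 0], [19, 15, 17], [])]),
  ([19, 15, 16], [some ([], [19, 15, 16], []), some ([0, 0, 0, 0, 2, 2, 1, 1, 0, 0, 2, 2, 2, 2], [19, 15, 16], []), some ([0, 0, 0, 0, 2, 2, 2, 2, 1, 1, 0, 0, 2, 2], [19, 15, 16], [])]),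
  ([19, 15, 16, 22], [some ([], [19, 15, 16, 22], []), some ([1, 1], [19, 15, 16, 22], []), some ([1, 1, 1, 1], [19, 15, 16, 22], [])]),
  ([19, 15, 16, 22, 22], [some ([], [19, 15, 16, 22, 22], []), some ([1, 1, 1, 1], [19, 15, 16, 22, 22], []), some ([1, 1], [19, 15, 16, 22, 22], [])]),
  ([19, 15, 16, 16], [some ([], [19, 15, 16, 16], []), some ([0, 0, 0, 0, 2, 2, 1, 1, 0, 0, 2, 2, 2, 2], [19, 15, 16, 16], []), some ([0, 0, 0, 0, 2, 2, 2, 2, 1, 1, 0, 0, 2, 2], [19, 15, 16, 16], [])]),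
  ([19, 15, 16, 16, 22], [some ([], [19, 15, 16, 16, 22], []), some ([1, 1], [19, 15, 16, 16, 22], []), some ([1, 1, 1, 1], [19, 15, 16, 16, 22], [])]),
  ([19, 15, 16, 16, 22, 22], [some ([], [19, 15, 16, 16, 22, 22], []), some ([1, 1, 1, 1], [19, 15, 16, 16, 22, 22], []), some ([1, 1], [19, 15, 16, 16, 22, 22], [])]),
  ([19, 15, 15], [some ([], [19, 15, 15], []), some ([0, 0, 0, 0, 2, 2, 2, 2, 1, 1, 0, 0, 2, 2], [19, 15, 15], []), some ([0, 0, 0, 0, 2, 2, 1, 1, 0, 0, 2, 2, 2, 2], [19, 15, 15], [])]),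
  ([19, 15, 15, 22], [some ([], [19, 15, 15, 22], []), some ([1, 1], [19, 15, 15, 22], []), some ([1, 1, 1, 1], [19, 15, 15, 22], [])]),
  ([19, 15, 15, 22, 22], [some ([], [19, 15, 15, 22, 22], []), some ([1, 1, 1, 1], [19, 15, 15, 22, 22], []), some ([1, 1], [19, 15, 15, 22, 22], [])]),
  ([19, 15, 15, 17], [some ([], [19, 15, 15, 17], []), some ([0, 0, 0, 0, 1, 1, 0, 0], [19, 15, 15, 17], []), some ([0, 0, 1, 1, 0, 0, 0, 0], [19, 15, 15, 17], [])]),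
  ([19, 15, 15, 16], [some ([], [19, 15, 15, 16], []), some ([0, 0, 0, 0, 2, 2, 2, 2, 1, 1, 0, 0, 2, 2], [19, 15, 15, 16], []), some ([0, 0, 0, 0, 2, 2, 1, 1, 0, 0, 2, 2, 2, 2], [19, 15, 15, 16], [])]),
  ([19, 15, 15, 16, 22], [some ([], [19, 15, 15, 16, 22], []), some ([1, 1], [19, 15, 15, 16, 22], []), some ([1, 1, 1, 1], [19, 15, 15, 16, 22], [])]),
  ([19, 15, 15, 16, 22, 22], [some ([], [19, 15, 15, 16, 22, 22], []), some ([1, 1, 1, 1], [19, 15, 15, 16, 22, 22], []), some ([1, 1], [19, 15, 15, 16, 22, 22], [])]),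
  ([19, 15, 15, 16, 16], [some ([], [19, 15, 15, 16, 16], []), some ([0, 0, 0, 0, 2, 2, 2, 2, 1, 1, 0, 0, 2, 2], [19, 15, 15, 16, 16], []), some ([0, 0, 0, 0, 2, 2, 1, 1, 0, 0, 2, 2, 2, 2], [19, 15, 15, 16, 16], [])]),
  ([19, 15, 15, 16, 16, 22], [some ([], [19, 15, 15, 16, 16, 22], []), some ([1, 1], [19, 15, 15, 16, 16, 22], []), some ([1, 1, 1, 1], [19, 15, 15, 16, 16, 22], [])]),
  ([19, 15, 15, 16, 16, 22, 22], [some ([], [19, 15, 15, 16, 16, 22, 22], []), some ([1, 1, 1, 1], [19, 15, 15, 16, 16, 22, 22], []), some ([1, 1], [19, 15, 15, 16, 16, 22, 22], [])]),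
  ([12], [some ([], [12], []), some ([], [12, 23], []), some ([], [12, 23, 23], [])]),
  ([12, 21], [some ([], [12, 21], []), some ([1, 1, 1, 1, 3, 3, 1, 1, 3, 3, 3, 3], [12, 21], []), some ([1, 1, 1, 1, 3, 3, 3, 3, 1, 1, 3, 3], [12, 21], [])]),
  ([12, 16], [some ([], [12, 16], []), some ([1, 1, 0, 0, 2, 2, 1, 1, 0, 0, 3, 3, 1, 1, 0, 0], [12, 16], []), some ([0, 0, 0, 0, 1, 1, 1, 1, 3, 3, 3, 3, 1, 1, 0, 0, 3, 3], [12, 16], [])]),
  ([12, 19], [some ([], [12, 19], []), some ([1, 1, 0, 0, 2, 2, 1, 1, 2, 2, 3, 3, 3, 3, 1, 1, 2, 2], [12, 19], []), some ([2, 2, 1, 1, 2, 2, 3, 3, 1, 1, 0, 0, 2, 2, 1, 1], [12, 19], [])]),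
  ([12, 19, 16], [none, none, none]),
  ([12, 19, 16, 16], [none, none, none]),
  ([13], [some ([], [13], []), some ([], [13, 23], []), some ([], [13, 23, 23], [])]),
  ([13, 20], [some ([], [13, 20], []), some ([1, 1, 1, 1, 2, 2, 1, 1, 2, 2, 2, 2], [13, 20], []), some ([1, 1, 1, 1, 2, 2, 2, 2, 1, 1, 2, 2], [13, 20], [])]),
  ([13, 15], [some ([], [13, 15], []), some ([1, 1, 0, 0, 3, 3, 1, 1, 0, 0, 2, 2, 1, 1, 0, 0], [13, 15], []), some ([0, 0, 0, 0, 1, 1, 1, 1, 2, 2, 2, 2, 1, 1, 0, 0, 2, 2], [13, 15], [])]),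
  ([13, 19], [some ([], [13, 19], []), some ([1, 1, 0, 0, 3, 3, 1, 1, 2, 2, 2, 2, 3, 3, 1, 1, 3, 3], [13, 19], []), some ([3, 3, 1, 1, 2, 2, 3, 3, 1, 1, 0, 0, 3, 3, 1, 1], [13, 19], [])]),
  ([13, 19, 15], [none, none, none]),
  ([13, 19, 15, 15], [none, none, none]),
  ([13, 12], [some ([], [13, 12], []), some ([], [13, 12, 23], []), some ([], [13, 12, 23, 23], [])]),
  ([13, 12, 21], [some ([], [13, 12, 21], []), some ([1, 1, 0, 0, 2, 2, 1, 1, 0, 0, 3, 3, 1, 1], [13, 12, 21], []), some ([1, 1, 0, 0, 3, 3, 1, 1, 0, 0, 2, 2, 1, 1], [13, 12, 21], [])]),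
  ([13, 12, 16], [some ([], [13, 12, 16], []), some ([0, 0, 0, 0, 1, 1, 2, 2, 1, 1, 3, 3, 1, 1, 0, 0, 3, 3, 3, 3], [13, 12, 16], []), some ([0, 0, 0, 0, 1, 1, 1, 1, 2, 2, 3, 3, 3, 3, 1, 1, 0, 0, 3, 3], [13, 12, 16], [])]),
  ([13, 12, 12], [some ([], [13, 12, 12], []), some ([], [13, 12, 12, 23], []), some ([], [13, 12, 12, 23, 23], [])]),
  ([13, 12, 12, 21], [some ([], [13, 12, 12, 21], []), some ([1, 1, 1, 1, 2, 2, 3, 3, 1, 1, 3, 3, 3, 3], [13, 12, 12, 21], []), some ([1, 1, 2, 2, 1, 1, 3, 3, 3, 3, 1, 1, 3, 3], [13, 12, 12, 21], [])]),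
  ([13, 12, 12, 16], [some ([], [13, 12, 12, 16], []), some ([0, 0, 1, 1, 0, 0, 2, 2, 3, 3, 1, 1, 0, 0, 2, 2, 1, 1], [13, 12, 12, 16], []), some ([0, 0, 0, 0, 1, 1, 2, 2, 1, 1, 3, 3, 3, 3, 1, 1, 0, 0, 3, 3], [13, 12, 12, 16], [])]),
  ([14], [some ([], [14], []), some ([0, 0, 2, 2, 3, 3, 1, 1, 5, 0, 0, 2, 2, 3, 3], [14], []), some ([0, 0, 0, 0, 2, 2, 3, 3, 1, 1, 0, 0, 5, 2, 2, 3, 3], [14], [])]),
  ([14, 22], [some ([], [14, 22], []), some ([1, 1], [14, 22], []), some ([1, 1, 1, 1], [14, 22], [])]),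
  ([14, 17], [some ([], [14, 17], []), some ([0, 0, 0, 0, 1, 1, 0, 0], [14, 17], []), some ([0, 0, 1, 1, 0, 0, 0, 0], [14, 17], [])]),
  ([14, 17, 22], [some ([], [14, 17, 22], []), some ([1, 1], [14, 17, 22], []), some ([1, 1, 1, 1], [14, 17, 22], [])]),
  ([14, 17, 17], [some ([], [14, 17, 17], []), some ([0, 0, 1, 1, 0, 0, 0, 0], [14, 17, 17], []), some ([0, 0, 0, 0, 1, 1, 0, 0], [14, 17, 17], [])]),
  ([14, 17, 17, 22], [some ([], [14, 17, 17, 22], []), some ([1, 1], [14, 17, 17, 22], []), some ([1, 1, 1, 1], [14, 17, 17, 22], [])]),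
  ([14, 21], [some ([], [14, 21], []), some ([3, 3, 1, 1, 3, 3, 3, 3], [14, 21], []), some ([3, 3, 1, 1, 5, 3, 3], [14, 21], [])]),
  ([14, 21, 22], [some ([], [14, 21, 22], []), some ([1, 1], [14, 21, 22], []), some ([1, 1, 1, 1], [14, 21, 22], [])]),
  ([14, 21, 17], [some ([], [14, 21, 17], []), some ([0, 0, 0, 0, 1, 1, 0, 0], [14, 21, 17], []), some ([0, 0, 1, 1, 0, 0, 0, 0], [14, 21, 17], [])]),
  ([14, 21, 17, 22], [some ([], [14, 21, 17, 22], []), some ([1, 1], [14, 21, 17, 22], []), some ([1, 1, 1, 1], [14, 21, 17, 22], [])]),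
  ([14, 21, 17, 17], [some ([], [14, 21, 17, 17], []), some ([0, 0, 1, 1, 0, 0, 0, 0], [14, 21, 17, 17], []), some ([0, 0, 0, 0, 1, 1, 0, 0], [14, 21, 17, 17], [])]),
  ([14, 21, 17, 17, 22], [some ([], [14, 21, 17, 17, 22], []), some ([1, 1], [14, 21, 17, 17, 22], []), some ([1, 1, 1, 1], [14, 21, 17, 17, 22], [])]),
  ([14, 21, 21], [some ([], [14, 21, 21], []), some ([3, 3, 1, 1, 5, 3, 3], [14, 21, 21], []), some ([3, 3, 1, 1, 3, 3, 3, 3], [14, 21, 21], [])]),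
  ([14, 21, 21, 22], [some ([], [14, 21, 21, 22], []), some ([1, 1], [14, 21, 21, 22], []), some ([1, 1, 1, 1], [14, 21, 21, 22], [])]),
  ([14, 21, 21, 17], [some ([], [14, 21, 21, 17], []), some ([0, 0, 0, 0, 1, 1, 0, 0], [14, 21, 21, 17], []), some ([0, 0, 1, 1, 0, 0, 0, 0], [14, 21, 21, 17], [])]),
  ([14, 21, 21, 17, 22], [some ([], [14, 21, 21, 17, 22], []), some ([1, 1], [14, 21, 21, 17, 22], []), some ([1, 1, 1, 1], [14, 21, 21, 17, 22], [])]),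
  ([14, 21, 21, 17, 17], [some ([], [14, 21, 21, 17, 17], []), some ([0, 0, 1, 1, 0, 0, 0, 0], [14, 21, 21, 17, 17], []), some ([0, 0, 0, 0, 1, 1, 0, 0], [14, 21, 21, 17, 17], [])]),
  ([14, 21, 21, 17, 17, 22], [some ([], [14, 21, 21, 17, 17, 22], []), some ([1, 1], [14, 21, 21, 17, 17, 22], []), some ([1, 1, 1, 1], [14, 21, 21, 17, 17, 22], [])]),
  ([14, 20], [some ([], [14, 20], []), some ([2, 2, 1, 1, 2, 2, 2, 2], [14, 20], []), some ([2, 2, 1, 1, 5, 2, 2], [14, 20], [])]),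
  ([14, 20, 22], [some ([], [14, 20, 22], []), some ([1, 1], [14, 20, 22], []), some ([1, 1, 1, 1], [14, 20, 22], [])]),
  ([14, 20, 17], [some ([], [14, 20, 17], []), some ([0, 0, 0, 0, 1, 1, 0, 0], [14, 20, 17], []), some ([0, 0, 1, 1, 0, 0, 0, 0], [14, 20, 17], [])]),
  ([14, 20, 17, 22], [some ([], [14, 20, 17, 22], []), some ([1, 1], [14, 20, 17, 22], []), some ([1, 1, 1, 1], [14, 20, 17, 22], [])]),
  ([14, 20, 17, 17], [some ([], [14, 20, 17, 17], []), some ([0, 0, 1, 1, 0, 0, 0, 0], [14, 20, 17, 17], []), some ([0, 0, 0, 0, 1, 1, 0, 0], [14, 20, 17, 17], [])]),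
  ([14, 20, 17, 17, 22], [some ([], [14, 20, 17, 17, 22], []), some ([1, 1], [14, 20, 17, 17, 22], []), some ([1, 1, 1, 1], [14, 20, 17, 17, 22], [])]),
  ([14, 20, 21], [some ([], [14, 20, 21], []), some ([2, 2, 1, 1, 2, 2, 2, 2], [14, 20, 21], []), some ([2, 2, 1, 1, 5, 2, 2], [14, 20, 21], [])]),
  ([14, 20, 21, 22], [some ([], [14, 20, 21, 22], []), some ([1, 1], [14, 20, 21, 22], []), some ([1, 1, 1, 1], [14, 20, 21, 22], [])]),
  ([14, 20, 21, 17], [some ([], [14, 20, 21, 17], []), some ([0, 0, 0, 0, 1, 1, 0, 0], [14, 20, 21, 17], []), some ([0, 0, 1, 1, 0, 0, 0, 0], [14, 20, 21, 17], [])]),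
  ([14, 20, 21, 17, 22], [some ([], [14, 20, 21, 17, 22], []), some ([1, 1], [14, 20, 21, 17, 22], []), some ([1, 1, 1, 1], [14, 20, 21, 17, 22], [])]),
  ([14, 20, 21, 17, 17], [some ([], [14, 20, 21, 17, 17], []), some ([0, 0, 1, 1, 0, 0, 0, 0], [14, 20, 21, 17, 17], []), some ([0, 0, 0, 0, 1, 1, 0, 0], [14, 20, 21, 17, 17], [])]),
  ([14, 20, 21, 17, 17, 22], [some ([], [14, 20, 21, 17, 17, 22], []), some ([1, 1], [14, 20, 21, 17, 17, 22], []), some ([1, 1, 1, 1], [14, 20, 21, 17, 17, 22], [])]),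
  ([14, 20, 21, 21], [some ([], [14, 20, 21, 21], []), some ([2, 2, 1, 1, 2, 2, 2, 2], [14, 20, 21, 21], []), some ([2, 2, 1, 1, 5, 2, 2], [14, 20, 21, 21], [])]),
  ([14, 20, 21, 21, 22], [some ([], [14, 20, 21, 21, 22], []), some ([1, 1], [14, 20, 21, 21, 22], []), some ([1, 1, 1, 1], [14, 20, 21, 21, 22], [])]),
  ([14, 20, 21, 21, 17], [some ([], [14, 20, 21, 21, 17], []), some ([0, 0, 0, 0, 1, 1, 0, 0], [14, 20, 21, 21, 17], []), some ([0, 0, 1, 1, 0, 0, 0, 0], [14, 20, 21, 21, 17], [])]),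
  ([14, 20, 21, 21, 17, 22], [some ([], [14, 20, 21, 21, 17, 22], []), some ([1, 1], [14, 20, 21, 21, 17, 22], []), some ([1, 1, 1, 1], [14, 20, 21, 21, 17, 22], [])]),
  ([14, 20, 21, 21, 17, 17], [some ([], [14, 20, 21, 21, 17, 17], []), some ([0, 0, 1, 1, 0, 0, 0, 0], [14, 20, 21, 21, 17, 17], []), some ([0, 0, 0, 0, 1, 1, 0, 0], [14, 20, 21, 21, 17, 17], [])]),
  ([14, 20, 21, 21, 17, 17, 22], [some ([], [14, 20, 21, 21, 17, 17, 22], []), some ([1, 1], [14, 20, 21, 21, 17, 17, 22], []), some ([1, 1, 1, 1], [14, 20, 21, 21, 17, 17, 22], [])]),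
  ([14, 20, 20], [some ([], [14, 20, 20], []), some ([2, 2, 1, 1, 5, 2, 2], [14, 20, 20], []), some ([2, 2, 1, 1, 2, 2, 2, 2], [14, 20, 20], [])]),
  ([14, 20, 20, 22], [some ([], [14, 20, 20, 22], []), some ([1, 1], [14, 20, 20, 22], []), some ([1, 1, 1, 1], [14, 20, 20, 22], [])]),
  ([14, 20, 20, 17], [some ([], [14, 20, 20, 17], []), some ([0, 0, 0, 0, 1, 1, 0, 0], [14, 20, 20, 17], []), some ([0, 0, 1, 1, 0, 0, 0, 0], [14, 20, 20, 17], [])]),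
  ([14, 20, 20, 17, 22], [some ([], [14, 20, 20, 17, 22], []), some ([1, 1], [14, 20, 20, 17, 22], []), some ([1, 1, 1, 1], [14, 20, 20, 17, 22], [])]),
  ([14, 20, 20, 17, 17], [some ([], [14, 20, 20, 17, 17], []), some ([0, 0, 1, 1, 0, 0, 0, 0], [14, 20, 20, 17, 17], []), some ([0, 0, 0, 0, 1, 1, 0, 0], [14, 20, 20, 17, 17], [])]),
  ([14, 20, 20, 17, 17, 22], [some ([], [14, 20, 20, 17, 17, 22], []), some ([1, 1], [14, 20, 20, 17, 17, 22], []), some ([1, 1, 1, 1], [14, 20, 20, 17, 17, 22], [])]),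
  ([14, 20, 20, 21], [some ([], [14, 20, 20, 21], []), some ([2, 2, 1, 1, 5, 2, 2], [14, 20, 20, 21], []), some ([2, 2, 1, 1, 2, 2, 2, 2], [14, 20, 20, 21], [])]),
  ([14, 20, 20, 21, 22], [some ([], [14, 20, 20, 21, 22], []), some ([1, 1], [14, 20, 20, 21, 22], []), some ([1, 1, 1, 1], [14, 20, 20, 21, 22], [])]),
  ([14, 20, 20, 21, 17], [some ([], [14, 20, 20, 21, 17], []), some ([0, 0, 0, 0, 1, 1, 0, 0], [14, 20, 20, 21, 17], []), some ([0, 0, 1, 1, 0, 0, 0, 0], [14, 20, 20, 21, 17], [])]),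
  ([14, 20, 20, 21, 17, 22], [some ([], [14, 20, 20, 21, 17, 22], []), some ([1, 1], [14, 20, 20, 21, 17, 22], []), some ([1, 1, 1, 1], [14, 20, 20, 21, 17, 22], [])]),
  ([14, 20, 20, 21, 17, 17], [some ([], [14, 20, 20, 21, 17, 17], []), some ([0, 0, 1, 1, 0, 0, 0, 0], [14, 20, 20, 21, 17, 17], []), some ([0, 0, 0, 0, 1, 1, 0, 0], [14, 20, 20, 21, 17, 17], [])]),
  ([14, 20, 20, 21, 17, 17, 22], [some ([], [14, 20, 20, 21, 17, 17, 22], []), some ([1, 1], [14, 20, 20, 21, 17, 17, 22], []), some ([1, 1, 1, 1], [14, 20, 20, 21, 17, 17, 22], [])]),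
  ([14, 20, 20, 21, 21], [some ([], [14, 20, 20, 21, 21], []), some ([2, 2, 1, 1, 5, 2, 2], [14, 20, 20, 21, 21], []), some ([2, 2, 1, 1, 2, 2, 2, 2], [14, 20, 20, 21, 21], [])]),
  ([14, 20, 20, 21, 21, 22], [some ([], [14, 20, 20, 21, 21, 22], []), some ([1, 1], [14, 20, 20, 21, 21, 22], []), some ([1, 1, 1, 1], [14, 20, 20, 21, 21, 22], [])]),
  ([14, 20, 20, 21, 21, 17], [some ([], [14, 20, 20, 21, 21, 17], []), some ([0, 0, 0, 0, 1, 1, 0, 0], [14, 20, 20, 21, 21, 17], []), some ([0, 0, 1, 1, 0, 0, 0, 0], [14, 20, 20, 21, 21, 17], [])]),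
  ([14, 20, 20, 21, 21, 17, 22], [some ([], [14, 20, 20, 21, 21, 17, 22], []), some ([1, 1], [14, 20, 20, 21, 21, 17, 22], []), some ([1, 1, 1, 1], [14, 20, 20, 21, 21, 17, 22], [])]),
  ([14, 20, 20, 21, 21, 17, 17], [some ([], [14, 20, 20, 21, 21, 17, 17], []), some ([0, 0, 1, 1, 0, 0, 0, 0], [14, 20, 20, 21, 21, 17, 17], []), some ([0, 0, 0, 0, 1, 1, 0, 0], [14, 20, 20, 21, 21, 17, 17], [])]),
  ([14, 20, 20, 21, 21, 17, 17, 22], [some ([], [14, 20, 20, 21, 21, 17, 17, 22], []), some ([1, 1], [14, 20, 20, 21, 21, 17, 17, 22], []), some ([1, 1, 1, 1], [14, 20, 20, 21, 21, 17, 17, 22], [])]),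
  ([14, 12], [some ([], [14, 12], []), some ([0, 0, 0, 0, 2, 2, 1, 1, 1, 1, 3, 3, 1, 1, 0, 0, 2, 2, 2, 2, 1, 1], [14, 12], []), some ([0, 0, 0, 0, 1, 1, 2, 2, 1, 1, 2, 2, 3, 3, 1, 1, 0, 0, 2, 2, 1, 1], [14, 12], [])]),
  ([14, 12, 21], [none, none, none]),
  ([14, 12, 21, 21], [none, none, none]),
  ([14, 13], [some ([], [14, 13], []), some ([0, 0, 0, 0, 3, 3, 1, 1, 1, 1, 2, 2, 1, 1, 0, 0, 3, 3, 3, 3, 1, 1], [14, 13], []), some ([0, 0, 0, 0, 1, 1, 3, 3, 1, 1, 2, 2, 3, 3, 1, 1, 0, 0, 3, 3, 1, 1], [14, 13], [])]),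
  ([14, 13, 20], [none, none, none]),
  ([14, 13, 20, 20], [none, none, none]),
  ([18], [some ([], [18], []), some ([], [18, 23], []), some ([], [18, 23, 23], [])]),
  ([18, 17], [some ([], [18, 17], []), some ([0, 0, 0, 0, 1, 1, 0, 0, 1, 1, 1, 1], [18, 17], []), some ([0, 0, 0, 0, 1, 1, 1, 1, 0, 0, 1, 1], [18, 17], [])]),
  ([18, 16], [some ([], [18, 16], []), some ([1, 1, 2, 2, 3, 3, 1, 1, 0, 0, 3, 3, 1, 1, 3, 3], [18, 16], []), some ([0, 0, 0, 0, 3, 3, 1, 1, 1, 1, 0, 0, 1, 1, 3, 3, 3, 3], [18, 16], [])]),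
  ([18, 15], [some ([], [18, 15], []), some ([1, 1, 2, 2, 3, 3, 1, 1, 0, 0, 2, 2, 1, 1, 2, 2], [18, 15], []), some ([0, 0, 0, 0, 2, 2, 1, 1, 1, 1, 0, 0, 1, 1, 2, 2, 2, 2], [18, 15], [])]),
  ([18, 15, 16], [none, none, none]),
  ([18, 15, 16, 16], [none, none, none]),
  ([18, 12], [some ([], [18, 12], []), some ([], [18, 12, 23], []), some ([], [18, 12, 23, 23], [])]),
  ([18, 12, 17], [some ([], [18, 12, 17], []), some ([0, 0, 0, 0, 1, 1, 0, 0, 1, 1, 3, 3, 1, 1], [18, 12, 17], []), some ([0, 0, 0, 0, 1, 1, 3, 3, 1, 1, 0, 0, 1, 1], [18, 12, 17], [])]),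
  ([18, 12, 15], [some ([], [18, 12, 15], []), some ([0, 0, 0, 0, 2, 2, 1, 1, 0, 0, 1, 1, 3, 3, 1, 1, 2, 2, 2, 2], [18, 12, 15], []), some ([0, 0, 0, 0, 2, 2, 1, 1, 3, 3, 1, 1, 0, 0, 1, 1, 2, 2, 2, 2], [18, 12, 15], [])]),
  ([18, 12, 12], [some ([], [18, 12, 12], []), some ([], [18, 12, 12, 23], []), some ([], [18, 12, 12, 23, 23], [])]),
  ([18, 12, 12, 17], [some ([], [18, 12, 12, 17], []), some ([0, 0, 0, 0, 1, 1, 0, 0, 3, 3, 1, 1, 1, 1], [18, 12, 12, 17], []), some ([0, 0, 0, 0, 1, 1, 1, 1, 0, 0, 3, 3, 1, 1], [18, 12, 12, 17], [])]),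
  ([18, 12, 12, 15], [some ([], [18, 12, 12, 15], []), some ([1, 1, 0, 0, 2, 2, 1, 1, 0, 0, 2, 2, 3, 3, 1, 1, 2, 2], [18, 12, 12, 15], []), some ([0, 0, 0, 0, 2, 2, 1, 1, 1, 1, 0, 0, 3, 3, 1, 1, 2, 2, 2, 2], [18, 12, 12, 15], [])]),
  ([18, 13], [some ([], [18, 13], []), some ([], [18, 13, 23], []), some ([], [18, 13, 23, 23], [])]),
  ([18, 13, 17], [some ([], [18, 13, 17], []), some ([0, 0, 0, 0, 1, 1, 0, 0, 1, 1, 2, 2, 1, 1], [18, 13, 17], []), some ([0, 0, 0, 0, 1, 1, 2, 2, 1, 1, 0, 0, 1, 1], [18, 13, 17], [])]),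
  ([18, 13, 16], [some ([], [18, 13, 16], []), some ([0, 0, 0, 0, 3, 3, 1, 1, 0, 0, 1, 1, 2, 2, 1, 1, 3, 3, 3, 3], [18, 13, 16], []), some ([0, 0, 0, 0, 3, 3, 1, 1, 2, 2, 1, 1, 0, 0, 1, 1, 3, 3, 3, 3], [18, 13, 16], [])]),
  ([18, 13, 12], [some ([], [18, 13, 12], []), some ([], [18, 13, 12, 23], []), some ([], [18, 13, 12, 23, 23], [])]),
  ([18, 13, 12, 15, 16, 16], [none, none, none]),
  ([18, 13, 12, 12], [some ([], [18, 13, 12, 12], []), some ([], [18, 13, 12, 12, 23], []), some ([], [18, 13, 12, 12, 23, 23], [])]),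
  ([18, 13, 12, 12, 15, 16], [none, none, none]),
  ([18, 13, 13], [some ([], [18, 13, 13], []), some ([], [18, 13, 13, 23], []), some ([], [18, 13, 13, 23, 23], [])]),
  ([18, 13, 13, 17], [some ([], [18, 13, 13, 17], []), some ([0, 0, 0, 0, 1, 1, 0, 0, 2, 2, 1, 1, 1, 1], [18, 13, 13, 17], []), some ([0, 0, 0, 0, 1, 1, 1, 1, 0, 0, 2, 2, 1, 1], [18, 13, 13, 17], [])]),
  ([18, 13, 13, 16], [some ([], [18, 13, 13, 16], []), some ([1, 1, 0, 0, 3, 3, 1, 1, 0, 0, 2, 2, 3, 3, 1, 1, 3, 3], [18, 13, 13, 16], []), some ([0, 0, 0, 0, 3, 3, 1, 1, 1, 1, 0, 0, 2, 2, 1, 1, 3, 3, 3, 3], [18, 13, 13, 16], [])]),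
  ([18, 13, 13, 12], [some ([], [18, 13, 13, 12], []), some ([], [18, 13, 13, 12, 23], []), some ([], [18, 13, 13, 12, 23, 23], [])]),
  ([18, 13, 13, 12, 15, 16], [none, none, none]),
  ([18, 13, 13, 12, 12], [some ([], [18, 13, 13, 12, 12], []), some ([], [18, 13, 13, 12, 12, 23], []), some ([], [18, 13, 13, 12, 12, 23, 23], [])]),
  ([18, 13, 13, 12, 12, 15, 16, 16], [none, none, none]),
  ([18, 14], [some ([], [18, 14], []), some ([0, 0, 2, 2, 3, 3, 1, 1, 1, 1, 5, 0, 0, 1, 1, 2, 2, 3, 3, 5], [18, 14], []), some ([0, 0, 2, 2, 3, 3, 1, 1, 5, 0, 0, 1, 1, 1, 1, 2, 2, 3, 3, 5], [18, 14], [])]),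
  ([18, 14, 17], [none, none, none]),
  ([18, 14, 17, 17], [none, none, none])]

end CfsgLib.ThreeTrans.O83
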