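import Cfsg.Agent.Lib.ThreeTrans.O83.Eval
import Cfsg.Agent.Lib.ThreeTrans.O83.StepsC

set_option autoImplicit false
set_option maxRecDepth 100000
set_option Elab.async false

/-!
Kernel checks of the filtration steps 11 to 12 for PΩ⁺(8, 3) (owner: helper18).
-/

namespace CfsgLib.ThreeTrans.O83

set_option maxHeartbeats 0 in
theorem step11_ok_0 : (((step11.drop 0).take 14).all (fun p => stepOK (finData.map Prod.fst) 11 p.1 p.2)) = true := by decide +kernel

set_option maxHeartbeats 0 in
theorem step11_ok_1 : (((step11.drop 14).take 14).all (fun p => stepOK (finData.map Prod.fst) 11 p.1 p.2)) = true := by decide +kernel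

set_option maxHeartbeats 0 in
theorem step11_ok_2 : (((step11.drop 28).take 14).all (fun p => stepOK (finData.map Prod.fst) 11 p.1 p.2)) = true := by decide +kernel

set_option maxHeartbeats 0 in
theorem step11_ok_3 : (((step11.drop 42).take 14).all (fun p => stepOK (finData.map Prod.fst) 11 p.1 p.2)) = true := by decide +kernel

set_option maxHeartbeats 0 in
theorem step11_ok_4 : (((step11.drop 56).take 14).all (fun p => stepOK (finData.map Prod.fst) 11 p.1 p.2)) = true := by decide +kernel

set_option maxHeartbeats 0 in
theorem step11_ok_5 : (((step11.drop 70).take 14).all (fun p => stepOK (finData.map Prod.fst) 11 p.1 p.2)) = true := by decide +kernel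

set_option maxHeartbeats 0 in
theorem step11_ok_6 : (((step11.drop 84).take 14).all (fun p => stepOK (finData.map Prod.fst) 11 p.1 p.2)) = true := by decide +kernel

set_option maxHeartbeats 0 in
theorem step11_ok_7 : (((step11.drop 98).take 14).all (fun p => stepOK (finData.map Prod.fst) 11 p.1 p.2)) = true := by decide +kernel

set_option maxHeartbeats 0 in
theorem step11_ok_8 : (((step11.drop 112).take 14).all (fun p => stepOK (finData.map Prod.fst) 11 p.1 p.2)) = true := by decide +kernel

set_option maxHeartbeats 0 in
theorem step11_ok_9 : (((step11.drop 126).take 14).all (fun p => stepOK (finData.map Prod.fst) 11 p.1 p.2)) = true := by decide +kernel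

set_option maxHeartbeats 0 in
theorem step11_ok_10 : (((step11.drop 140).take 14).all (fun p => stepOK (finData.map Prod.fst) 11 p.1 p.2)) = true := by decide +kernel

set_option maxHeartbeats 0 in
theorem step11_ok_11 : (((step11.drop 154).take 14).all (fun p => stepOK (finData.map Prod.fst) 11 p.1 p.2)) = true := by decide +kernel

set_option maxHeartbeats 0 in
theorem step11_ok_12 : ((step11.drop 168).all (fun p => stepOK (finData.map Prod.fst) 11 p.1 p.2)) = true := by decide +kernel

theorem step11_ok : (step11.all fun p => stepOK (finData.map Prod.fst) 11 p.1 p.2) = true := (all_split _ _ 0 14 step11_ok_0 (all_split _ _ 14 14 step11_ok_1 (all_split _ _ 28 14 step11_ok_2 (all_split _ _ 42 14 step11_ok_3 (all_split _ _ 56 14 step11_ok_4 (all_split _ _ 70 14 step11_ok_5 (all_split _ _ 84 14 step11_ok_6 (all_split _ _ 98 14 step11_ok_7 (all_split _ _ 112 14 step11_ok_8 (all_split _ _ 126 14 step11_ok_9 (all_split _ _ 140 14 step11_ok_10 (all_split _ _ 154 14 step11_ok_11 step11_ok_12))))))))))))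

end CfsgLib.ThreeTrans.O83
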