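import Cfsg.Agent.Lib.ThreeTrans.O83.Eval

set_option autoImplicit false
set_option maxRecDepth 100000
set_option Elab.async false

/-!
Kernel checks of the tables for PΩ⁺(8, 3) (owner: helper18).
-/

namespace CfsgLib.ThreeTrans.O83

theorem ops_ok : opsData.length = 24 ∧ (opsData.all fun os => os.all fun o => decide (OpOK o)) = true := by
  decide +kernel

theorem cube_ok : ((List.range 24).all fun g => ev [g, g, g] == eye) = true := by decide +kernel

theorem norm_ok : ((List.range 16).all fun b => (List.range 12).all fun k =>
    let w := (normData.getD b []).getD k []
    (ev (bgData.getD b [] ++ [lv k] ++ winv (bgData.getD b [])) == ev w) && w.all (above k).contains) = true := by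
  decide +kernel

theorem bg_ok : ((List.range 12).all fun k => (List.range 16).any fun b => bgData.getD b [] == [lv k]) = true := by
  decide +kernel

/-- An entry of the final table is valid. -/
def finOK (p : List ℕ × Option (ℕ × ℕ × List ℕ)) : Bool :=
    match p.2 with
    | none => p.1 == []
    | some (i, e, c) => decide (i < 13) && (e == 1 || e == 2) &&
        ev (c ++ p.1 ++ winv c) == ev (if e == 1 then repData.getD i [] else repData.getD i [] ++ repData.getD i [])

set_option maxHeartbeats 0 in
theorem fin_ok_0 : (((finData.drop 0).take 16).all finOK) = true := by decide +kernel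

set_option maxHeartbeats 0 in
theorem fin_ok_1 : (((finData.drop 16).take 16).all finOK) = true := by decide +kernel

set_option maxHeartbeats 0 in
theorem fin_ok_2 : (((finData.drop 32).take 16).all finOK) = true := by decide +kernel

set_option maxHeartbeats 0 in
theorem fin_ok_3 : (((finData.drop 48).take 16).all finOK) = true := by decide +kernel

set_option maxHeartbeats 0 in
theorem fin_ok_4 : (((finData.drop 64).take 16).all finOK) = true := by decide +kernel

set_option maxHeartbeats 0 in
theorem fin_ok_5 : (((finData.drop 80).take 16).all finOK) = true := by decide +kernel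

set_option maxHeartbeats 0 in
theorem fin_ok_6 : (((finData.drop 96).take 16).all finOK) = true := by decide +kernel

set_option maxHeartbeats 0 in
theorem fin_ok_7 : (((finData.drop 112).take 16).all finOK) = true := by decide +kernel

set_option maxHeartbeats 0 in
theorem fin_ok_8 : (((finData.drop 128).take 16).all finOK) = true := by decide +kernel

set_option maxHeartbeats 0 in
theorem fin_ok_9 : (((finData.drop 144).take 16).all finOK) = true := by decide +kernel

set_option maxHeartbeats 0 in
theorem fin_ok_10 : (((finData.drop 160).take 16).all finOK) = true := by decide +kernel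

set_option maxHeartbeats 0 in
theorem fin_ok_11 : ((finData.drop 176).all finOK) = true := by decide +kernel

theorem fin_ok : finData.all finOK = true := (all_split _ _ 0 16 fin_ok_0 (all_split _ _ 16 16 fin_ok_1 (all_split _ _ 32 16 fin_ok_2 (all_split _ _ 48 16 fin_ok_3 (all_split _ _ 64 16 fin_ok_4 (all_split _ _ 80 16 fin_ok_5 (all_split _ _ 96 16 fin_ok_6 (all_split _ _ 112 16 fin_ok_7 (all_split _ _ 128 16 fin_ok_8 (all_split _ _ 144 16 fin_ok_9 (all_split _ _ 160 16 fin_ok_10 fin_ok_11)))))))))))

theorem rep_ok : repData.length = 13 ∧ (repData.all fun r =>
    ev (r ++ r ++ r) == eye && differs (ev r) eye) = true := by decide +kernel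

theorem simple_ok : ((List.range 13).all fun i =>
    ((repSimple.getD i []).all [18, 14, 13, 12].contains) &&
      ev (repSimple.getD i []) == ev (repData.getD i [])) = true := by
  decide +kernel

end CfsgLib.ThreeTrans.O83
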