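import Cfsg.Agent.Lib.ThreeTrans.O83.Group
import Cfsg.Agent.Lib.Classical.Quad.POmega
import Mathlib.GroupTheory.Sylow

set_option autoImplicit false
set_option maxRecDepth 4000

/-!
The reduction of elements of order 3 of PΩ⁺(8, 3) to thirteen representatives (owner: helper18).
-/

namespace CfsgLib.ThreeTrans.O83

open CfsgLib.Classical CfsgLib.Classical.Quad
open scoped Matrix Pointwise

attribute [local irreducible] ev differs wd bad

/-- The simple group. -/
abbrev P : Type := Cfsg.POmega (ZMod 3) qf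

/-- The projection Ω → PΩ. -/
noncomputable def proj : ↥Om →* P := QuotientGroup.mk' (Subgroup.center Om)

theorem cube_mod {k : ℕ} {a z : O} (ha : a ∈ Z 0) (hz : z ∈ Z k) (h : (a * z) ^ 3 = 1) :
    a * a * a ∈ Z k := by
  have h1 : (a * a) * ((a * a)⁻¹ * z * (a * a)) = z * (a * a) := by group
  have e : (a * z) ^ 3 = (a * a * a) * (((a * a)⁻¹ * z * (a * a)) * (a⁻¹ * z * a) * z) := by
    rw [pow_succ', pow_two]; group
  have m1 : (a * a)⁻¹ * z * (a * a) ∈ Z k := by
    simpa using Z_normalised (inv_mem (mul_mem ha ha)) hz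
  have m2 : a⁻¹ * z * a ∈ Z k := by simpa using Z_normalised (inv_mem ha) hz
  rw [h] at e
  rw [eq_inv_of_mul_eq_one_left e.symm]
  exact inv_mem (mul_mem (mul_mem m1 m2) hz)

/-- The states at a level. -/
def states : ℕ → List (List ℕ)
  | 0 => level step0
  | 1 => level step1
  | 2 => level step2
  | 3 => level step3
  | 4 => level step4
  | 5 => level step5
  | 6 => level step6
  | 7 => level step7
  | 8 => level step8
  | 9 => level step9
  | 10 => level step10
  | 11 => level step11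
  | _ => finData.map Prod.fst

/-- The table at a level. -/
def tables : List (List (List ℕ × List (Option (List ℕ × List ℕ × List ℕ)))) :=
  [step0, step1, step2, step3, step4, step5, step6, step7, step8, step9, step10, step11]

theorem levels_ok : ∀ k, k < 12 → states k = level (tables.getD k []) ∧
    ((tables.getD k []).all fun p => stepOK (states (k + 1)) k p.1 p.2) = true
  | 0, _ => ⟨rfl, step0_ok⟩
  | 1, _ => ⟨rfl, step1_ok⟩
  | 2, _ => ⟨rfl, step2_ok⟩
  | 3, _ => ⟨rfl, step3_ok⟩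
  | 4, _ => ⟨rfl, step4_ok⟩
  | 5, _ => ⟨rfl, step5_ok⟩
  | 6, _ => ⟨rfl, step6_ok⟩
  | 7, _ => ⟨rfl, step7_ok⟩
  | 8, _ => ⟨rfl, step8_ok⟩
  | 9, _ => ⟨rfl, step9_ok⟩
  | 10, _ => ⟨rfl, step10_ok⟩
  | 11, _ => ⟨rfl, step11_ok⟩
  | n + 12, h => by omega

theorem start_ok : states 0 = [[]] := by decide +kernel

theorem reduce {u : O} (hu : u ∈ Z 0) (h3 : u * (u * u) = 1) :
    ∀ k, k ≤ 12 → ∃ g, g ∈ Om ∧ ∃ s ∈ states k, ∃ z ∈ Z k, g * u * g⁻¹ = wd s * z := by
  intro k
  induction k with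
  | zero =>
    intro _
    refine ⟨1, one_mem _, [], by rw [start_ok]; exact List.mem_cons_self, u, hu, by simp [wd_nil]⟩
  | succ k ih =>
    intro hk
    obtain ⟨g, hg, s, hs, z, hz, he⟩ := ih (by omega)
    obtain ⟨t, ht, z', hz', rfl⟩ := Z_decomp (by omega) hz
    obtain ⟨hst, hall⟩ := levels_ok k (by omega)
    rw [hst, level, List.mem_map] at hs
    obtain ⟨p, hp, rfl⟩ := hs
    have h := List.all_eq_true.1 hall p hp
    simp only [stepOK, Bool.and_eq_true, List.all_eq_true, List.mem_range] at h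
    obtain ⟨⟨-, hlv⟩, h⟩ := h
    have ht' := h t ht
    generalize p.2.getD t none = r at ht'
    rcases r with _ | ⟨c, q, w⟩
    · exfalso
      refine not_inPat_of_bad ht' ?_
      rw [← mat_wd]
      refine Z_inPat (by omega) ?_
      rw [wd_append, wd_append]
      have e : wd (p.1 ++ List.replicate t (lv k)) = wd p.1 * x (lv k) ^ t := by
        rw [wd_append, wd_replicate]
      have ha : wd p.1 * x (lv k) ^ t ∈ Z 0 := by
        refine mul_mem (wd_mem_Z fun y hy => ?_)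
          (pow_mem (Z_zero_mem (List.drop_subset k lvData (lv_mem (by omega)))) t)
        exact List.contains_iff_mem.1 (hlv y hy)
      rw [e]
      refine cube_mod ha hz' ?_
      rw [mul_assoc, ← he, pow_succ', pow_two]
      calc _ = g * (u * (u * u)) * g⁻¹ := by group
        _ = 1 := by rw [h3]; group
    · simp only [Bool.and_eq_true, beq_iff_eq, List.all_eq_true, decide_eq_true_eq,
        List.contains_iff_mem] at ht'
      obtain ⟨⟨⟨e, hc⟩, hw⟩, hq⟩ := ht'
      refine ⟨wd (bw c) * g, mul_mem (wd_mem_Om _) hg, q, hq,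
        wd w * (wd (bw c) * z' * (wd (bw c))⁻¹),
        mul_mem (wd_mem_Z fun y hy => hw y hy) (bw_norm hc hz'), ?_⟩
      have e' := wd_eq e
      simp only [wd_append, wd_winv, wd_replicate] at e'
      rw [mul_inv_rev, show wd (bw c) * g * u * (g⁻¹ * (wd (bw c))⁻¹) =
        wd (bw c) * (g * u * g⁻¹) * (wd (bw c))⁻¹ by group, he, ← mul_assoc (wd q), ← e']
      group

/-- The representatives. -/
noncomputable def rep (i : ℕ) : O := wd (repData.getD i [])

theorem rep_cube {i : ℕ} (hi : i < 13) : rep i * (rep i * rep i) = 1 ∧ rep i ≠ 1 := by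
  have hl : i < repData.length := by rw [rep_ok.1]; exact hi
  have h := List.all_eq_true.1 rep_ok.2 _ (List.getElem_mem hl)
  simp only [Bool.and_eq_true, beq_iff_eq] at h
  rw [rep, List.getD_eq_getElem _ _ hl]
  refine ⟨?_, fun e => ?_⟩
  · have h1 := wd_eq (w' := []) (h.1.trans (by rw [ev]))
    rw [wd_append, wd_append, wd_nil, mul_assoc] at h1
    exact h1
  · have h2 := ne_of_differs h.2
    rw [← mat_wd, e, mat_one, dec_eye] at h2
    exact h2 rfl

theorem classify_Z {u : O} (hu : u ∈ Z 0) (h3 : u * (u * u) = 1) (h1 : u ≠ 1) :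
    ∃ i < 13, ∃ g ∈ Om, g * u * g⁻¹ = rep i ∨ g * u * g⁻¹ = rep i * rep i := by
  obtain ⟨g, hg, s, hs, z, hz, he⟩ := reduce hu h3 12 le_rfl
  rw [Z_top, Subgroup.mem_bot] at hz
  rw [hz, mul_one] at he
  rw [show states 12 = finData.map Prod.fst from rfl, List.mem_map] at hs
  obtain ⟨⟨s', o⟩, hp, rfl⟩ := hs
  have h := List.all_eq_true.1 fin_ok _ hp
  dsimp only [finOK] at h he
  rcases o with _ | ⟨i, e, d⟩
  · exfalso
    dsimp only at h
    rw [beq_iff_eq] at h
    rw [h, wd_nil] at he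
    exact h1 (conj_eq_one_iff.1 he)
  · dsimp only at h
    simp only [Bool.and_eq_true, Bool.or_eq_true, beq_iff_eq, decide_eq_true_eq] at h
    obtain ⟨⟨hi, he'⟩, hev⟩ := h
    refine ⟨i, hi, wd d * g, mul_mem (wd_mem_Om _) hg, ?_⟩
    have hw := wd_eq hev
    simp only [wd_append, wd_winv] at hw
    have : wd d * g * u * (wd d * g)⁻¹ = wd d * wd s' * (wd d)⁻¹ := by
      rw [← he]; group
    rw [this, hw]
    rcases he' with rfl | rfl
    · exact Or.inl (by simp [rep])
    · exact Or.inr (by simp [rep, wd_append])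

theorem center_Om_sq {z : ↥Om} (hz : z ∈ Subgroup.center Om) : z ^ 2 = 1 := by
  classical
  have key : ∀ (q : (Idx → ZMod 3) → ZMod 3), ⇑(qPlus 4 (ZMod 3)) = q →
      Nat.card (Subgroup.center ↥(Cfsg.Omega (ZMod 3) q)) ∣ 2 := by
    rintro q rfl
    rw [Nat.card_congr (Subgroup.centerCongr (omegaEquiv (qPlus 4 (ZMod 3)))).toEquiv,
      card_center_Omega (qPlus_nondeg 4) (by simp) _ Iff.rfl]
    split_ifs <;> norm_num
  have h2 := key qf (coe_qPlus 4 (ZMod 3))
  have h3 : (⟨z, hz⟩ : Subgroup.center ↥Om) ^ 2 = 1 :=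
    orderOf_dvd_iff_pow_eq_one.1 ((orderOf_dvd_natCard _).trans h2)
  exact congrArg Subtype.val h3

theorem proj_eq_one {a : ↥Om} (h : proj a = 1) (h3 : (a : O) * (a * a) = 1) : a = 1 := by
  have h2 := center_Om_sq ((QuotientGroup.eq_one_iff a).1 h)
  rw [pow_two] at h2
  have h3' : a * (a * a) = 1 := Subtype.ext h3
  rwa [h2, mul_one] at h3'

/-- The representatives in the derived group. -/
noncomputable def r (i : ℕ) : ↥Om := ⟨rep i, wd_mem_Om _⟩

/-- Their images. -/
noncomputable def y (i : ℕ) : P := proj (r i)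

theorem order_y {i : ℕ} (hi : i < 13) : orderOf (y i) = 3 := by
  have : Fact (Nat.Prime 3) := ⟨Nat.prime_three⟩
  refine orderOf_eq_prime ?_ fun e => (rep_cube hi).2 (congrArg Subtype.val (proj_eq_one e (rep_cube hi).1))
  rw [y, ← map_pow, pow_succ', pow_two, show r i * (r i * r i) = 1 from Subtype.ext (rep_cube hi).1, map_one]

theorem card_P_factor : (Nat.card P).factorization 3 = 12 := by
  have h : Nat.gcd 4 (3 ^ 4 - 1) * Nat.card P = 3 ^ (4 * (4 - 1)) * (3 ^ 4 - 1) *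
      ∏ i ∈ Finset.range (4 - 1), (3 ^ (2 * (i + 1)) - 1) :=
    card_POmega_plus (F := ZMod 3) (q := 3) (ZMod.card 3) 4 le_rfl
  simp [Finset.prod_range_succ] at h
  have e : Nat.card P = 3 ^ 12 * 9318400 := by omega
  rw [e, Nat.factorization_mul (by norm_num) (by norm_num), Nat.Prime.factorization_pow Nat.prime_three,
    Finsupp.add_apply, Finsupp.single_eq_same, Nat.factorization_eq_zero_of_not_dvd (by norm_num)]

theorem card_Z_proj : Nat.card (((Z 0).subgroupOf Om).map proj) = 3 ^ 12 := by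
  rw [← card_Z 12 le_rfl, Nat.sub_self, ← Nat.card_congr (Subgroup.subgroupOfEquivOfLe (Z_le_Om 0)).toEquiv]
  refine (Nat.card_congr (Equiv.ofBijective (fun a : ((Z 0).subgroupOf Om) =>
    (⟨proj a, Subgroup.mem_map_of_mem _ a.2⟩ : ((Z 0).subgroupOf Om).map proj)) ⟨?_, ?_⟩)).symm
  · intro a b e
    have e' : proj (a : ↥Om) = proj (b : ↥Om) := congrArg Subtype.val e
    have hc : (a : ↥Om) * (b : ↥Om)⁻¹ ∈ Subgroup.center Om := by
      rw [← QuotientGroup.eq_one_iff]
      show proj ((a : ↥Om) * (b : ↥Om)⁻¹) = 1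
      rw [map_mul, e', map_inv, mul_inv_cancel]
    have hZ : (((a : ↥Om) * (b : ↥Om)⁻¹ : ↥Om) : O) ∈ Z 0 := mul_mem a.2 (inv_mem b.2)
    have ho := Subgroup.orderOf_dvd_natCard (Z 0) hZ
    rw [show Nat.card (Z 0) = 3 ^ 12 from card_Z 12 le_rfl, Subgroup.orderOf_coe] at ho
    have h2 := orderOf_dvd_of_pow_eq_one (center_Om_sq hc)
    have h1 : orderOf ((a : ↥Om) * (b : ↥Om)⁻¹) = 1 :=
      Nat.eq_one_of_dvd_coprimes (by norm_num : Nat.Coprime (3 ^ 12) 2) ho h2
    exact Subtype.ext (mul_inv_eq_one.1 (orderOf_eq_one_iff.1 h1))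
  · rintro ⟨_, a, ha, rfl⟩
    exact ⟨⟨a, ha⟩, rfl⟩

/-- Every element of order 3 is conjugate to a representative or its square. -/
theorem classify {v : P} (hv : orderOf v = 3) :
    ∃ i < 13, ∃ g : P, g * v * g⁻¹ ∈ Subgroup.zpowers (y i) := by
  haveI : Fact (Nat.Prime 3) := ⟨Nat.prime_three⟩
  let U : Sylow 3 P := Sylow.ofCard (((Z 0).subgroupOf Om).map proj) (by rw [card_P_factor]; exact card_Z_proj)
  have hp : IsPGroup 3 (Subgroup.zpowers v) :=
    IsPGroup.of_card (n := 1) (by rw [Nat.card_zpowers, hv, pow_one])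
  obtain ⟨Q, hQ⟩ := hp.exists_le_sylow
  obtain ⟨g, hg⟩ := MulAction.exists_smul_eq P Q U
  have hm : g * v * g⁻¹ ∈ ((Z 0).subgroupOf Om).map proj := by
    have h := Subgroup.smul_mem_pointwise_smul v (MulAut.conj g) (Q : Subgroup P)
      (hQ (Subgroup.mem_zpowers _))
    have e : (U : Subgroup P) = MulAut.conj g • (Q : Subgroup P) := by rw [← hg]; rfl
    rw [← e] at h
    exact h
  obtain ⟨u, hu, hue⟩ := hm
  have ho : orderOf (g * v * g⁻¹) = 3 := by
    rw [← MulAut.conj_apply, MulEquiv.orderOf_eq, hv]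
  have hcz : proj (u ^ 3) = 1 := by
    have := pow_orderOf_eq_one (g * v * g⁻¹)
    rwa [ho, ← hue, ← map_pow] at this
  have h6 : ((u ^ 4 : ↥Om) : O) * ((u ^ 4 : ↥Om) * (u ^ 4 : ↥Om)) = 1 := by
    have h := center_Om_sq ((QuotientGroup.eq_one_iff _).1 hcz)
    rw [← Subgroup.coe_mul, ← Subgroup.coe_mul, ← pow_add, ← pow_add,
      show 4 + (4 + 4) = (3 * 2) * 2 by norm_num, pow_mul, pow_mul, h, one_pow]
    rfl
  have h4 : proj (u ^ 4) = g * v * g⁻¹ := by rw [pow_succ, map_mul, hcz, one_mul, hue]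
  obtain ⟨i, hi, d, hd, h⟩ := classify_Z (u := ((u ^ 4 : ↥Om) : O))
    (by rw [SubgroupClass.coe_pow]; exact pow_mem hu 4) h6 (fun e => by
      rw [show (u ^ 4 : ↥Om) = 1 from Subtype.ext e, map_one] at h4
      rw [← h4, orderOf_one] at ho
      omega)
  refine ⟨i, hi, proj ⟨d, hd⟩ * g, ?_⟩
  rw [mul_inv_rev, show proj ⟨d, hd⟩ * g * v * (g⁻¹ * (proj ⟨d, hd⟩)⁻¹) =
    proj ⟨d, hd⟩ * (g * v * g⁻¹) * (proj ⟨d, hd⟩)⁻¹ by group, ← h4, ← map_inv, ← map_mul, ← map_mul]
  rcases h with h | h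
  · rw [show (⟨d, hd⟩ : ↥Om) * u ^ 4 * (⟨d, hd⟩ : ↥Om)⁻¹ = r i from Subtype.ext h]
    exact Subgroup.mem_zpowers _
  · rw [show (⟨d, hd⟩ : ↥Om) * u ^ 4 * (⟨d, hd⟩ : ↥Om)⁻¹ = r i * r i from Subtype.ext h, map_mul]
    exact mul_mem (Subgroup.mem_zpowers _) (Subgroup.mem_zpowers _)

end CfsgLib.ThreeTrans.O83
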