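import Cfsg.Agent.Lib.ThreeTrans.O83.Eval

set_option autoImplicit false
set_option maxRecDepth 100000
set_option Elab.async false

/-!
Numbers of fixed vectors of given norm of the representatives (owner: helper18).
-/

namespace CfsgLib.ThreeTrans.O83

open CfsgLib.ThreeTrans.O73 (Row get)

/-- A coordinate of a numbered vector. -/
def digit (n j : ℕ) : ZMod 3 := ((n / 3 ^ j % 3 : ℕ) : ZMod 3)

/-- A coordinate of the image of a numbered vector. -/
def dot (r : Row) (n : ℕ) : ZMod 3 :=
  get r 0 * digit n 0 + (get r 1 * digit n 1 + (get r 2 * digit n 2 + (get r 3 * digit n 3 +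
    (get r 4 * digit n 4 + (get r 5 * digit n 5 + (get r 6 * digit n 6 + get r 7 * digit n 7))))))

/-- The norm of a numbered vector. -/
def nrm (n : ℕ) : ZMod 3 :=
  digit n 0 * digit n 7 + digit n 1 * digit n 6 + digit n 2 * digit n 5 + digit n 3 * digit n 4

/-- A numbered vector is fixed. -/
def fixes (A : List Row) (n : ℕ) : Bool :=
  (List.range 8).all fun i => A.getD i (0, 0) == eye.getD i (0, 0) || dot (A.getD i (0, 0)) n == digit n i

/-- The numbers of fixed vectors of norm 1 and of norm 2. -/
def counts (A : List Row) : ℕ × ℕ :=
  ((List.range 6561).foldl (fun a n =>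
    if fixes A n then (if nrm n == 1 then (a.1 + 1, a.2) else if nrm n == 2 then (a.1, a.2 + 1) else a) else a)
    (0, 0))

/-- The values of the invariants. -/
def countData : List (ℕ × ℕ) :=
  [(216, 216), (216, 270), (18, 18), (0, 0), (0, 0), (270, 216), (0, 0), (0, 0), (0, 54), (54, 0), (54, 0),
    (0, 54), (36, 36)]

/-- Images of the classes under the rotation. -/
def tauPerm : List ℕ := [0, 3, 2, 4, 1, 6, 7, 5, 8, 11, 9, 10, 12]

/-- Images of the classes under the exchange. -/
def sigPerm : List ℕ := [0, 1, 2, 4, 3, 5, 7, 6, 8, 10, 9, 11, 12]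

set_option maxHeartbeats 0 in
theorem count_ok_0 : counts (ev (repData.getD 0 [])) = countData.getD 0 (0, 0) := by decide +kernel

set_option maxHeartbeats 0 in
theorem count_ok_1 : counts (ev (repData.getD 1 [])) = countData.getD 1 (0, 0) := by decide +kernel

set_option maxHeartbeats 0 in
theorem count_ok_2 : counts (ev (repData.getD 2 [])) = countData.getD 2 (0, 0) := by decide +kernel

set_option maxHeartbeats 0 in
theorem count_ok_3 : counts (ev (repData.getD 3 [])) = countData.getD 3 (0, 0) := by decide +kernel

set_option maxHeartbeats 0 in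
theorem count_ok_4 : counts (ev (repData.getD 4 [])) = countData.getD 4 (0, 0) := by decide +kernel

set_option maxHeartbeats 0 in
theorem count_ok_5 : counts (ev (repData.getD 5 [])) = countData.getD 5 (0, 0) := by decide +kernel

set_option maxHeartbeats 0 in
theorem count_ok_6 : counts (ev (repData.getD 6 [])) = countData.getD 6 (0, 0) := by decide +kernel

set_option maxHeartbeats 0 in
theorem count_ok_7 : counts (ev (repData.getD 7 [])) = countData.getD 7 (0, 0) := by decide +kernel

set_option maxHeartbeats 0 in
theorem count_ok_8 : counts (ev (repData.getD 8 [])) = countData.getD 8 (0, 0) := by decide +kernel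

set_option maxHeartbeats 0 in
theorem count_ok_9 : counts (ev (repData.getD 9 [])) = countData.getD 9 (0, 0) := by decide +kernel

set_option maxHeartbeats 0 in
theorem count_ok_10 : counts (ev (repData.getD 10 [])) = countData.getD 10 (0, 0) := by decide +kernel

set_option maxHeartbeats 0 in
theorem count_ok_11 : counts (ev (repData.getD 11 [])) = countData.getD 11 (0, 0) := by decide +kernel

set_option maxHeartbeats 0 in
theorem count_ok_12 : counts (ev (repData.getD 12 [])) = countData.getD 12 (0, 0) := by decide +kernel

theorem count_ok : ((List.range 13).map fun i => counts (ev (repData.getD i []))) = countData := by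
  rw [show List.range 13 = [0, 1, 2, 3, 4, 5, 6, 7, 8, 9, 10, 11, 12] from rfl]
  simp only [List.map_cons, List.map_nil, count_ok_0, count_ok_1, count_ok_2, count_ok_3, count_ok_4, count_ok_5, count_ok_6, count_ok_7, count_ok_8, count_ok_9, count_ok_10, count_ok_11, count_ok_12]
  rfl

end CfsgLib.ThreeTrans.O83
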