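import Cfsg.Agent.Lib.ThreeTrans.O73.Enc
import Mathlib.LinearAlgebra.Matrix.Transvection

set_option autoImplicit false

/-!
Encoded 8 × 8 matrices over the field with three elements and row operations (owner: helper18).
-/

namespace CfsgLib.ThreeTrans.O83

open CfsgLib.ThreeTrans.O73 (Row get ok radd ok_iff radd_spec trit)

/-- A row multiplied by 1 or 2. -/
def scale (c : ℕ) (b : Row) : Row := if c == 1 then b else (b.2, b.1)

/-- Add a multiple of a row to another. -/
def step (A : List Row) (o : ℕ × ℕ × ℕ) : List Row :=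
  A.set o.1 (radd (A.getD o.1 (0, 0)) (scale o.2.2 (A.getD o.2.1 (0, 0))))

/-- The identity. -/
def eye : List Row := [(1, 0), (2, 0), (4, 0), (8, 0), (16, 0), (32, 0), (64, 0), (128, 0)]

/-- The matrix of an encoded matrix. -/
def dec (A : List Row) : Matrix (Fin 8) (Fin 8) (ZMod 3) := fun i j => get (A.getD i (0, 0)) j

/-- Eight valid rows. -/
def Good (A : List Row) : Prop := A.length = 8 ∧ ∀ r ∈ A, ok r

instance (A : List Row) : Decidable (Good A) := inferInstanceAs (Decidable (_ ∧ _))

/-- An admissible row operation. -/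
def OpOK (o : ℕ × ℕ × ℕ) : Prop := o.1 < 8 ∧ o.2.1 < 8 ∧ o.1 ≠ o.2.1 ∧ (o.2.2 = 1 ∨ o.2.2 = 2)

instance (o : ℕ × ℕ × ℕ) : Decidable (OpOK o) := inferInstanceAs (Decidable (_ ∧ _))

theorem good_eye : Good eye := by decide

theorem dec_eye : dec eye = 1 := by decide +kernel

theorem good_getD {A : List Row} (hA : Good A) (i : ℕ) : ok (A.getD i (0, 0)) := by
  by_cases h : i < A.length
  · rw [List.getD_eq_getElem _ _ h]
    exact hA.2 _ (List.getElem_mem h)
  · rw [List.getD_eq_default _ _ (not_lt.1 h)]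
    decide

theorem scale_spec {c : ℕ} (hc : c = 1 ∨ c = 2) {b : Row} (hb : ok b) :
    ok (scale c b) ∧ ∀ j, get (scale c b) j = (c : ZMod 3) * get b j := by
  rcases hc with rfl | rfl
  · exact ⟨hb, fun j => (one_mul _).symm.trans (by simp [scale])⟩
  · refine ⟨by simpa [scale, ok, Nat.and_comm] using hb, fun j => ?_⟩
    have key : ∀ b₁ b₂ : Bool, trit b₂ b₁ = (2 : ZMod 3) * trit b₁ b₂ ∨ (b₁ && b₂) = true := by decide
    rcases key (b.1.testBit j) (b.2.testBit j) with h | h
    · simpa [scale, O73.get] using h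
    · rw [ok_iff.1 hb j] at h
      exact absurd h (by simp)

theorem good_step {A : List Row} (hA : Good A) {o : ℕ × ℕ × ℕ} (ho : OpOK o) : Good (step A o) := by
  refine ⟨by rw [step, List.length_set, hA.1], fun r hr => ?_⟩
  rcases List.mem_or_eq_of_mem_set hr with h | rfl
  · exact hA.2 r h
  · exact (radd_spec (good_getD hA _) (scale_spec ho.2.2.2 (good_getD hA _)).1).1

/-- The matrix of a row operation. -/
def opMat (o : ℕ × ℕ × ℕ) : Matrix (Fin 8) (Fin 8) (ZMod 3) :=
  if h : o.1 < 8 ∧ o.2.1 < 8 then Matrix.transvection ⟨o.1, h.1⟩ ⟨o.2.1, h.2⟩ (o.2.2 : ZMod 3) else 1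

theorem dec_step {A : List Row} (hA : Good A) {o : ℕ × ℕ × ℕ} (ho : OpOK o) :
    dec (step A o) = opMat o * dec A := by
  obtain ⟨h1, h2, -, h4⟩ := ho
  rw [opMat, dif_pos ⟨h1, h2⟩]
  ext a b
  show get ((step A o).getD a (0, 0)) b = _
  by_cases e : (a : ℕ) = o.1
  · rw [show a = ⟨o.1, h1⟩ from Fin.ext e, Matrix.transvection_mul_apply_same]
    show _ = get (A.getD o.1 (0, 0)) b + (o.2.2 : ZMod 3) * get (A.getD o.2.1 (0, 0)) b
    rw [step, List.getD_eq_getElem?_getD, List.getElem?_set_self (by rw [hA.1]; exact h1), Option.getD_some,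
      (radd_spec (good_getD hA _) (scale_spec h4 (good_getD hA _)).1).2,
      (scale_spec h4 (good_getD hA _)).2]
  · rw [Matrix.transvection_mul_apply_of_ne _ _ _ _ (fun h => e (congrArg Fin.val h)), step,
      List.getD_eq_getElem?_getD, List.getElem?_set_ne (Ne.symm e), ← List.getD_eq_getElem?_getD]
    rfl

/-- A list of row operations. -/
def steps (A : List Row) (os : List (ℕ × ℕ × ℕ)) : List Row := os.foldl step A

theorem steps_spec : ∀ (os : List (ℕ × ℕ × ℕ)) {A : List Row}, Good A → (∀ o ∈ os, OpOK o) →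
    Good (steps A os) ∧ dec (steps A os) = (os.reverse.map opMat).prod * dec A
  | [], A, hA, _ => ⟨hA, by simp [steps]⟩
  | o :: os, A, hA, h => by
    have ho := h o List.mem_cons_self
    obtain ⟨h1, h2⟩ := steps_spec os (good_step hA ho) fun x hx => h x (List.mem_cons_of_mem _ hx)
    refine ⟨h1, ?_⟩
    show dec (steps (step A o) os) = _
    rw [h2, dec_step hA ho]
    simp [List.prod_append, Matrix.mul_assoc]

theorem steps_mul {os : List (ℕ × ℕ × ℕ)} (h : ∀ o ∈ os, OpOK o) {A : List Row} (hA : Good A) :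
    dec (steps A os) = dec (steps eye os) * dec A := by
  rw [(steps_spec os hA h).2, (steps_spec os good_eye h).2, dec_eye, Matrix.mul_one]

/-- Entrywise difference somewhere. -/
def differs (A B : List Row) : Bool :=
  (List.finRange 8).any fun i => (List.finRange 8).any fun j =>
    get (A.getD (i : ℕ) (0, 0)) (j : ℕ) != get (B.getD (i : ℕ) (0, 0)) (j : ℕ)

theorem ne_of_differs {A B : List Row} (h : differs A B = true) : dec A ≠ dec B := fun e => by
  simp only [differs, List.any_eq_true, bne_iff_ne] at h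
  obtain ⟨i, -, j, -, hij⟩ := h
  exact hij (congrFun (congrFun e i) j)

end CfsgLib.ThreeTrans.O83
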