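import Cfsg.Agent.Lib.ThreeTrans.O83.Enc
import Cfsg.Agent.Lib.ThreeTrans.O83.Data

set_option autoImplicit false
set_option maxRecDepth 10000

/-!
Evaluation of words in the root elements of Ω⁺(8, 3) on encoded matrices (owner: helper18).
-/

namespace CfsgLib.ThreeTrans.O83

open CfsgLib.ThreeTrans.O73 (Row get)

/-- The row operations of a root. -/
def gops (g : ℕ) : List (ℕ × ℕ × ℕ) := opsData.getD g []

/-- The matrix of a word. -/
def ev : List ℕ → List Row
  | [] => eye
  | g :: w => steps (ev w) (gops g)

/-- A word for the inverse. -/
def winv (w : List ℕ) : List ℕ := w.reverse.flatMap fun g => [g, g]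

/-- The root at a place of the filtration. -/
def lv (k : ℕ) : ℕ := lvData.getD k 0

/-- The roots from a place of the filtration on. -/
def above (k : ℕ) : List ℕ := lvData.drop k

/-- A word in the Borel generators. -/
def bw (c : List ℕ) : List ℕ := c.flatMap fun b => bgData.getD b []

/-- A position is allowed at a level. -/
def allowed (k : ℕ) (i j : Fin 8) : Bool := i == j || (patData.getD k []).contains ((i : ℕ) * 8 + j)

/-- A nonzero entry at a forbidden position. -/
def bad (k : ℕ) (A : List Row) : Bool :=
  (List.finRange 8).any fun i => (List.finRange 8).any fun j =>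
    get (A.getD (i : ℕ) (0, 0)) (j : ℕ) != 0 && !allowed k i j

/-- The representatives at a level. -/
def level (st : List (List ℕ × List (Option (List ℕ × List ℕ × List ℕ)))) : List (List ℕ) := st.map Prod.fst

/-- A row of a step is valid. -/
def stepOK (next : List (List ℕ)) (k : ℕ) (s : List ℕ) (row : List (Option (List ℕ × List ℕ × List ℕ))) : Bool :=
  (row.length == 3) && s.all lvData.contains && (List.range 3).all fun t =>
    match row.getD t none with
    | none =>
      let w := s ++ List.replicate t (lv k)
      bad (k + 1) (ev (w ++ w ++ w))
    | some (c, q, z) =>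
      (ev (bw c ++ s ++ List.replicate t (lv k) ++ winv (bw c)) == ev (q ++ z)) && c.all (· < 16) &&
        z.all (above (k + 1)).contains && next.contains q

/-- A check on a table follows from checks on its pieces. -/
theorem all_split {α : Type*} (l : List α) (f : α → Bool) (a b : ℕ) (h₁ : ((l.drop a).take b).all f = true)
    (h₂ : (l.drop (a + b)).all f = true) : (l.drop a).all f = true := by
  rw [← List.take_append_drop b (l.drop a), List.all_append, h₁, List.drop_drop, h₂]; rfl

end CfsgLib.ThreeTrans.O83
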