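import Cfsg.Agent.Lib.ThreeTrans.O83.ChecksA
import Cfsg.Agent.Lib.ThreeTrans.O83.ChecksB
import Cfsg.Agent.Lib.ThreeTrans.O83.ChecksC
import Cfsg.Agent.Lib.ThreeTrans.O83.ChecksD
import Cfsg.Agent.Lib.Classical.ChevModel.D4

set_option autoImplicit false
set_option maxRecDepth 4000

/-!
The unipotent Sylow subgroup of Ω⁺(8, 3) and its root elements (owner: helper18).
-/

namespace CfsgLib.ThreeTrans.O83

open CfsgLib.Classical.ChevModel
open CfsgLib.ThreeTrans.O73 (Row get)
open scoped Matrix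

/-- The index type of the standard form. -/
abbrev Idx : Type := Fin 4 ⊕ Fin 4

/-- The form. -/
abbrev qf : (Idx → ZMod 3) → ZMod 3 := Cfsg.quadFormPlus 4 (ZMod 3)

/-- The isometry group. -/
abbrev O : Type := ↥(Cfsg.isometryGroup (ZMod 3) qf)

/-- The derived group. -/
abbrev Om : Subgroup O := Cfsg.Omega (ZMod 3) qf

/-- The position of a coordinate. -/
def pos : Idx ≃ Fin 8 where
  toFun := Sum.elim (fun i => ![0, 1, 2, 3] i) (fun i => ![7, 6, 5, 4] i)
  invFun j := ![Sum.inl 0, Sum.inl 1, Sum.inl 2, Sum.inl 3, Sum.inr 3, Sum.inr 2, Sum.inr 1, Sum.inr 0] j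
  left_inv := by decide
  right_inv := by decide

/-- The matrix of an isometry in the ordered basis. -/
def mat (g : O) : Matrix (Fin 8) (Fin 8) (ZMod 3) :=
  ((g : GL Idx (ZMod 3)) : Matrix Idx Idx (ZMod 3)).submatrix pos.symm pos.symm

theorem mat_one : mat 1 = 1 := by
  show (1 : Matrix Idx Idx (ZMod 3)).submatrix pos.symm pos.symm = 1
  exact Matrix.submatrix_one_equiv _

theorem mat_mul (g h : O) : mat (g * h) = mat g * mat h := by
  show (((g : GL Idx (ZMod 3)) : Matrix Idx Idx (ZMod 3)) * ((h : GL Idx (ZMod 3)) : Matrix Idx Idx (ZMod 3))).submatrix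
    pos.symm pos.symm = _
  exact (Matrix.submatrix_mul_equiv _ _ _ _ _).symm

theorem mat_inj {g h : O} (e : mat g = mat h) : g = h := by
  refine Subtype.ext (Units.ext ?_)
  have := congrArg (fun M : Matrix (Fin 8) (Fin 8) (ZMod 3) => M.submatrix pos pos) e
  simpa [mat, Matrix.submatrix_submatrix] using this

/-- The root elements. -/
noncomputable def x (g : ℕ) : O := rootG (D4.isModel (ZMod 3)) g 1

theorem gops_ok (g : ℕ) : ∀ o ∈ gops g, OpOK o := by
  intro o ho
  unfold gops at ho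
  by_cases h : g < opsData.length
  · rw [List.getD_eq_getElem _ _ h] at ho
    have := List.all_eq_true.1 ops_ok.2 _ (List.getElem_mem h)
    exact of_decide_eq_true (List.all_eq_true.1 this o ho)
  · rw [List.getD_eq_default _ _ (not_lt.1 h)] at ho
    simp at ho

theorem good_ev : ∀ w, Good (ev w)
  | [] => good_eye
  | g :: w => (steps_spec _ (good_ev w) (gops_ok g)).1

theorem ev_cons (g : ℕ) (w : List ℕ) : dec (ev (g :: w)) = dec (ev [g]) * dec (ev w) :=
  steps_mul (gops_ok g) (good_ev w)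

theorem root_mat : ∀ g : Fin 24,
    ((rootM D4.tab D4.code (ZMod 3) (g : ℕ) 1).submatrix pos.symm pos.symm) = dec (ev [(g : ℕ)]) := by
  decide +kernel

theorem mat_x (g : ℕ) : mat (x g) = dec (ev [g]) := by
  by_cases h : g < 24
  · rw [mat, x, rootG_val _ (show g < Cfsg.Lie.chevD4.nroots from h)]
    exact root_mat ⟨g, h⟩
  · have e : ev [g] = eye := by
      show steps eye (gops g) = eye
      rw [gops, List.getD_eq_default _ _ (by rw [ops_ok.1]; omega)]
      rfl
    rw [x, rootG, dif_neg (show ¬ g < Cfsg.Lie.chevD4.nroots from h), mat_one, e, dec_eye]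

/-- The element of a word. -/
noncomputable def wd (w : List ℕ) : O := (w.map x).prod

theorem mat_wd : ∀ w, mat (wd w) = dec (ev w)
  | [] => by rw [ev, dec_eye]; exact mat_one
  | g :: w => by
    rw [ev_cons, ← mat_wd w, ← mat_x, ← mat_mul]
    rfl

theorem wd_eq {w w' : List ℕ} (h : ev w = ev w') : wd w = wd w' :=
  mat_inj (by rw [mat_wd, mat_wd, h])

theorem wd_append (w w' : List ℕ) : wd (w ++ w') = wd w * wd w' := by simp [wd]

theorem wd_nil : wd [] = 1 := rfl

theorem wd_single (g : ℕ) : wd [g] = x g := by simp [wd]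

theorem wd_replicate (t g : ℕ) : wd (List.replicate t g) = x g ^ t := by
  simp [wd, List.map_replicate, List.prod_replicate]

theorem x_cube (g : ℕ) : x g * (x g * x g) = 1 := by
  by_cases h : g < 24
  · have h' := List.all_eq_true.1 cube_ok g (List.mem_range.2 h)
    rw [beq_iff_eq] at h'
    have := wd_eq (w' := []) h'
    simpa [wd] using this
  · simp [x, rootG, dif_neg (show ¬ g < Cfsg.Lie.chevD4.nroots from h)]

theorem x_sq (g : ℕ) : x g * x g = (x g)⁻¹ := eq_inv_of_mul_eq_one_right (x_cube g)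

theorem wd_winv : ∀ w, wd (winv w) = (wd w)⁻¹
  | [] => by simp [wd, winv]
  | g :: w => by
    have : winv (g :: w) = winv w ++ [g, g] := by simp [winv]
    rw [this, wd_append, wd_winv w, show wd (g :: w) = x g * wd w from rfl, mul_inv_rev]
    simp [wd, x_sq]

theorem x_mem_Om (g : ℕ) : x g ∈ Om := by
  show rootG (D4.isModel (ZMod 3)) g 1 ∈ Cfsg.Omega (ZMod 3) (Cfsg.quadFormPlus 4 (ZMod 3))
  rw [D4.omega_eq, ← modelHom_gen]
  exact ⟨_, rfl⟩

theorem wd_mem_Om (w : List ℕ) : wd w ∈ Om := by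
  refine Subgroup.list_prod_mem _ fun y hy => ?_
  obtain ⟨g, -, rfl⟩ := List.mem_map.1 hy
  exact x_mem_Om g

/-- A unit upper triangular matrix with entries at allowed positions only. -/
def InPat (k : ℕ) (M : Matrix (Fin 8) (Fin 8) (ZMod 3)) : Prop :=
  (∀ i, M i i = 1) ∧ ∀ i j, allowed k i j = true ∨ M i j = 0

instance (k : ℕ) (M : Matrix (Fin 8) (Fin 8) (ZMod 3)) : Decidable (InPat k M) := by
  unfold InPat
  exact @instDecidableAnd _ _ (@Nat.decidableForallFin _ _ fun i => inferInstance)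
    (@Nat.decidableForallFin _ _ fun i => @Nat.decidableForallFin _ _ fun j => inferInstance)

theorem not_inPat_of_bad {k : ℕ} {A : List Row} (h : bad k A = true) : ¬ InPat k (dec A) := fun hp => by
  simp only [bad, List.any_eq_true, Bool.and_eq_true, bne_iff_ne, Bool.not_eq_true'] at h
  obtain ⟨i, -, j, -, h1, h2⟩ := h
  exact h1 ((hp.2 i j).resolve_left (by simp [h2]))

theorem allowed_ok : ∀ k : Fin 13, (∀ i l j : Fin 8, allowed k i l = true → allowed k l j = true → allowed k i j = true) ∧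
    ∀ i l : Fin 8, i ≠ l → allowed k i l = true → allowed k l i = false := by decide +kernel

theorem inPat_mul {k : ℕ} (hk : k < 13) {M N : Matrix (Fin 8) (Fin 8) (ZMod 3)} (hM : InPat k M)
    (hN : InPat k N) : InPat k (M * N) := by
  refine ⟨fun i => ?_, fun i j => ?_⟩
  · rw [Matrix.mul_apply, Finset.sum_eq_single i, hM.1, hN.1, one_mul]
    · intro l _ hl
      by_cases h1 : allowed k i l = true
      · have h2 := (allowed_ok ⟨k, hk⟩).2 i l (Ne.symm hl) h1
        rw [(hN.2 l i).resolve_left (by simp [h2]), mul_zero]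
      · rw [(hM.2 i l).resolve_left h1, zero_mul]
    · simp
  · rw [Matrix.mul_apply]
    refine or_iff_not_imp_left.2 fun hij => Finset.sum_eq_zero fun l _ => ?_
    by_cases h1 : allowed k i l = true
    · by_cases h2 : allowed k l j = true
      · exact absurd ((allowed_ok ⟨k, hk⟩).1 i l j h1 h2) hij
      · rw [(hN.2 l j).resolve_left h2, mul_zero]
    · rw [(hM.2 i l).resolve_left h1, zero_mul]

theorem x_inPat : ∀ k : Fin 13, ∀ g ∈ above (k : ℕ), InPat k (dec (ev [g])) := by decide +kernel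

theorem x_not_inPat : ∀ k : Fin 12, ¬ InPat ((k : ℕ) + 1) (dec (ev [lv (k : ℕ)])) := by decide +kernel

/-- The filtration of the Sylow subgroup. -/
noncomputable def Z (k : ℕ) : Subgroup O := Subgroup.closure {y | ∃ g ∈ above k, y = x g}

theorem x_mem_Z {k g : ℕ} (h : g ∈ above k) : x g ∈ Z k := Subgroup.subset_closure ⟨g, h, rfl⟩

theorem wd_mem_Z {k : ℕ} {w : List ℕ} (h : ∀ g ∈ w, g ∈ above k) : wd w ∈ Z k := by
  refine Subgroup.list_prod_mem _ fun y hy => ?_
  obtain ⟨g, hg, rfl⟩ := List.mem_map.1 hy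
  exact x_mem_Z (h g hg)

theorem lv_mem {k : ℕ} (hk : k < 12) : lv k ∈ above k := by
  have hl : k < lvData.length := hk
  simp only [above, List.drop_eq_getElem_cons hl, lv, List.getD_eq_getElem _ _ hl]
  exact List.mem_cons_self

theorem above_succ {k : ℕ} (hk : k < 12) : above k = lv k :: above (k + 1) := by
  have hl : k < lvData.length := hk
  simp only [above, List.drop_eq_getElem_cons hl, lv, List.getD_eq_getElem _ _ hl]

theorem Z_succ_le (k : ℕ) : Z (k + 1) ≤ Z k :=
  Subgroup.closure_mono fun _ ⟨g, h, e⟩ => ⟨g, (List.drop_subset_drop_left _ (Nat.le_succ k)) h, e⟩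

theorem Z_zero_mem {g : ℕ} (h : g ∈ lvData) : x g ∈ Z 0 := x_mem_Z h

theorem Z_inPat {k : ℕ} (hk : k < 13) {y : O} (hy : y ∈ Z k) : InPat k (mat y) := by
  have hmon : y ∈ Submonoid.closure {y : O | ∃ g ∈ above k, y = x g} := by
    rw [← Subgroup.closure_toSubmonoid_of_finite]
    exact hy
  clear hy
  induction hmon using Submonoid.closure_induction with
  | mem y h =>
    obtain ⟨g, h1, rfl⟩ := h
    rw [mat_x]
    exact x_inPat ⟨k, hk⟩ g h1
  | one =>
    rw [mat_one]
    refine ⟨fun i => by simp, fun i j => ?_⟩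
    by_cases h : i = j
    · exact Or.inl (by simp [allowed, h])
    · exact Or.inr (by simp [h])
  | mul a b _ _ ha hb =>
    rw [mat_mul]
    exact inPat_mul hk ha hb

theorem x_not_mem {k : ℕ} (hk : k < 12) : x (lv k) ∉ Z (k + 1) := fun h =>
  x_not_inPat ⟨k, hk⟩ (by have := Z_inPat (by omega) h; rwa [mat_x] at this)

/-- A Borel generator. -/
noncomputable def bx (b : ℕ) : O := wd (bgData.getD b [])

theorem bx_norm {b k : ℕ} (hb : b < 16) {y : O} (hy : y ∈ Z k) : bx b * y * (bx b)⁻¹ ∈ Z k := by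
  induction hy using Subgroup.closure_induction with
  | mem y h =>
    obtain ⟨g, h1, rfl⟩ := h
    obtain ⟨l, hl, rfl⟩ := List.getElem_of_mem h1
    have hl' : k + l < 12 := by
      simp only [above, List.length_drop] at hl
      have : lvData.length = 12 := rfl
      omega
    have e : (above k)[l] = lv (k + l) := by
      simp only [above, List.getElem_drop, lv]
      rw [List.getD_eq_getElem]
    have h := List.all_eq_true.1 (List.all_eq_true.1 norm_ok b (List.mem_range.2 hb)) (k + l)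
      (List.mem_range.2 hl')
    simp only [Bool.and_eq_true, beq_iff_eq, List.all_eq_true, List.contains_iff_mem] at h
    rw [e, bx, ← wd_winv, ← wd_single, ← wd_append, ← wd_append, wd_eq h.1]
    exact wd_mem_Z fun z hz => (List.drop_subset_drop_left _ (Nat.le_add_right k l)) (h.2 z hz)
  | one => simp
  | mul a b' _ _ ha hb' => simpa [mul_assoc] using mul_mem ha hb'
  | inv a _ ha => simpa [mul_assoc] using inv_mem ha

theorem bw_norm {k : ℕ} : ∀ {c : List ℕ}, (∀ b ∈ c, b < 16) → ∀ {y : O}, y ∈ Z k →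
    wd (bw c) * y * (wd (bw c))⁻¹ ∈ Z k
  | [], _, y, hy => by simpa [bw, wd] using hy
  | b :: c, h, y, hy => by
    have e : wd (bw (b :: c)) = bx b * wd (bw c) := by
      rw [bx, ← wd_append]; rfl
    rw [e]
    simpa [mul_assoc] using bx_norm (h b List.mem_cons_self)
      (bw_norm (fun z hz => h z (List.mem_cons_of_mem _ hz)) hy)

theorem Z_normalised {k : ℕ} {c y : O} (hc : c ∈ Z 0) (hy : y ∈ Z k) : c * y * c⁻¹ ∈ Z k := by
  have hmon : c ∈ Submonoid.closure {y : O | ∃ g ∈ above 0, y = x g} := by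
    rw [← Subgroup.closure_toSubmonoid_of_finite]
    exact hc
  clear hc
  induction hmon using Submonoid.closure_induction generalizing y with
  | mem c h =>
    obtain ⟨g, hg, rfl⟩ := h
    obtain ⟨l, hl, rfl⟩ := List.getElem_of_mem hg
    have hl' : l < 12 := hl
    have e : (above 0)[l] = lv l := by
      simp only [above, List.getElem_drop, lv, Nat.zero_add]
      rw [List.getD_eq_getElem]
    obtain ⟨b, hb, hbe⟩ := List.any_eq_true.1 (List.all_eq_true.1 bg_ok l (List.mem_range.2 hl'))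
    rw [beq_iff_eq] at hbe
    have := bx_norm (List.mem_range.1 hb) hy
    rwa [bx, hbe, wd_single, ← e] at this
  | one => simpa using hy
  | mul a b _ _ ha hb => simpa [mul_assoc] using ha (hb hy)

theorem Z_decomp {k : ℕ} (hk : k < 12) {y : O} (hy : y ∈ Z k) :
    ∃ t < 3, ∃ z ∈ Z (k + 1), y = x (lv k) ^ t * z := by
  have p3 : x (lv k) ^ 3 = 1 := by rw [pow_succ', pow_two]; exact x_cube _
  have hx0 : x (lv k) ∈ Z 0 := Z_zero_mem (List.drop_subset k lvData (lv_mem hk))
  have hn : ∀ (t : ℕ) z, z ∈ Z (k + 1) → (x (lv k) ^ t)⁻¹ * z * x (lv k) ^ t ∈ Z (k + 1) := fun t z hz => by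
    simpa using Z_normalised (inv_mem (pow_mem hx0 t)) hz
  induction hy using Subgroup.closure_induction with
  | mem y h =>
    obtain ⟨g, h1, rfl⟩ := h
    rw [above_succ hk, List.mem_cons] at h1
    rcases h1 with rfl | h1
    · exact ⟨1, by norm_num, 1, one_mem _, by simp⟩
    · exact ⟨0, by norm_num, x g, x_mem_Z h1, by simp⟩
  | one => exact ⟨0, by norm_num, 1, one_mem _, by simp⟩
  | mul a b _ _ ha hb =>
    obtain ⟨t, -, z, hz, rfl⟩ := ha
    obtain ⟨s, -, w, hw, rfl⟩ := hb
    refine ⟨(t + s) % 3, Nat.mod_lt _ (by norm_num), (x (lv k) ^ s)⁻¹ * z * x (lv k) ^ s * w,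
      mul_mem (hn s z hz) hw, ?_⟩
    rw [← pow_eq_pow_mod _ p3, pow_add]
    group
  | inv a _ ha =>
    obtain ⟨t, -, z, hz, rfl⟩ := ha
    have hi : (x (lv k) ^ t)⁻¹ = x (lv k) ^ (2 * t) := inv_eq_of_mul_eq_one_right (by
      rw [← pow_add, show t + 2 * t = 3 * t by ring, pow_mul, p3, one_pow])
    refine ⟨(2 * t) % 3, Nat.mod_lt _ (by norm_num), x (lv k) ^ t * z⁻¹ * (x (lv k) ^ t)⁻¹,
      Z_normalised (pow_mem hx0 t) (inv_mem hz), ?_⟩
    rw [← pow_eq_pow_mod _ p3, ← hi]
    group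

theorem Z_top : Z 12 = ⊥ :=
  Subgroup.closure_eq_bot_iff.2 fun y ⟨g, h, _⟩ => absurd h (by simp [above, show lvData.drop 12 = [] from rfl])

theorem card_Z : ∀ k, k ≤ 12 → Nat.card (Z (12 - k)) = 3 ^ k := by
  intro k
  induction k with
  | zero =>
    intro _
    rw [show (12 - 0 : ℕ) = 12 from rfl, Z_top]
    simp
  | succ k ih =>
    intro hk
    obtain ⟨l, hl⟩ : ∃ l, l = 12 - (k + 1) := ⟨_, rfl⟩
    have hl1 : 12 - k = l + 1 := by omega
    have hl9 : l < 12 := by omega
    rw [← hl]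
    have hb := ih (by omega)
    rw [hl1] at hb
    have p3 : x (lv l) ^ 3 = 1 := by rw [pow_succ', pow_two]; exact x_cube _
    let f : Fin 3 × Z (l + 1) → Z l := fun p =>
      ⟨x (lv l) ^ (p.1 : ℕ) * p.2, mul_mem (pow_mem (x_mem_Z (lv_mem hl9)) _) (Z_succ_le l p.2.2)⟩
    have key : ∀ t : ℕ, x (lv l) ^ t ∈ Z (l + 1) → t % 3 = 0 := by
      intro t ht
      rw [pow_eq_pow_mod _ p3] at ht
      rcases (show t % 3 = 0 ∨ t % 3 = 1 ∨ t % 3 = 2 by omega) with h | h | h
      · exact h
      · rw [h, pow_one] at ht; exact absurd ht (x_not_mem hl9)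
      · rw [h, pow_two, x_sq] at ht; exact absurd (inv_mem_iff.1 ht) (x_not_mem hl9)
    have hf : Function.Bijective f := by
      refine ⟨?_, fun y => ?_⟩
      · rintro ⟨t, z⟩ ⟨s, w⟩ h
        have h' : x (lv l) ^ (t : ℕ) * (z : O) = x (lv l) ^ (s : ℕ) * (w : O) := congrArg Subtype.val h
        have hmem : x (lv l) ^ ((t : ℕ) + 2 * s) ∈ Z (l + 1) := by
          have e : x (lv l) ^ ((t : ℕ) + 2 * s) = (w : O) * (z : O)⁻¹ := by
            rw [eq_mul_inv_iff_mul_eq, add_comm, pow_add, mul_assoc, h', ← mul_assoc, ← pow_add,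
              show 2 * (s : ℕ) + s = 3 * s by ring, pow_mul, p3, one_pow, one_mul]
          rw [e]; exact mul_mem w.2 (inv_mem z.2)
        have hts : t = s := by
          have := key _ hmem
          ext; omega
        subst hts
        exact Prod.ext rfl (Subtype.ext (mul_left_cancel h'))
      · obtain ⟨t, ht, z, hz, e⟩ := Z_decomp hl9 y.2
        exact ⟨(⟨t, ht⟩, ⟨z, hz⟩), Subtype.ext e.symm⟩
    rw [← Nat.card_congr (Equiv.ofBijective f hf), Nat.card_prod, hb, Nat.card_fin, pow_succ']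

theorem Z_le_Om (k : ℕ) : Z k ≤ Om :=
  (Subgroup.closure_le _).2 fun y ⟨g, _, e⟩ => e ▸ x_mem_Om g

end CfsgLib.ThreeTrans.O83
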