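import Cfsg.Agent.Lib.ThreeTrans.O83.Eval

set_option autoImplicit false
set_option maxRecDepth 100000

/-!
Kernel checks of the images of the representatives under the diagram symmetries (owner: helper18).
-/

namespace CfsgLib.ThreeTrans.O83

/-- The rotation of the three outer simple roots. -/
def tauL (g : ℕ) : ℕ := if g == 18 then 13 else if g == 13 then 12 else if g == 12 then 18 else g

/-- The exchange of two outer simple roots. -/
def sigL (g : ℕ) : ℕ := if g == 13 then 12 else if g == 12 then 13 else g

/-- A row of images is valid. -/
def imgOK (L : ℕ → ℕ) (tab : List (ℕ × ℕ × List ℕ)) (i : ℕ) : Bool :=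
  match tab.getD i (0, 0, []) with
  | (j, e, c) => decide (j < 13) && (e == 1 || e == 2) &&
      ev (c ++ (repSimple.getD i []).map L ++ winv c) ==
        ev (if e == 1 then repData.getD j [] else repData.getD j [] ++ repData.getD j [])

theorem tau_ok : ((List.range 13).all fun i => imgOK tauL tauData i) = true := by decide +kernel

theorem sig_ok : ((List.range 13).all fun i => imgOK sigL sigData i) = true := by decide +kernel

end CfsgLib.ThreeTrans.O83
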