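import Cfsg.Agent.Lib.ThreeTrans.O83.Classify
import Cfsg.Agent.Lib.ThreeTrans.O83.ImgChecks
import Cfsg.Agent.Lib.Known.ChevAut.OutD4

set_option autoImplicit false
set_option maxRecDepth 4000

/-!
The diagram symmetries of PΩ⁺(8, 3) on the representatives (owner: helper18).
-/

namespace CfsgLib.ThreeTrans.O83

open Cfsg.Lie CfsgLib.Lie.Chev CfsgLib.Known CfsgLib.Known.ChevAut CfsgLib.Classical.ChevModel

attribute [local irreducible] ev differs wd

/-- The adjoint group. -/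
abbrev GC : Type := ↥(chevD4.group (ZMod 3))

theorem exists_iso : ∃ ε : GC ≃* P, ∀ g, g < 24 → ε (xG certD4 (ZMod 3) g 1) = proj ⟨x g, x_mem_Om g⟩ := by
  have hc : Rel.Connected chevD4 := connected_of_mem (by simp)
  have hperf := perfectData_of_mem (D := chevD4) (by simp) (ZMod 3) (fun h => absurd h (by
    rintro (h | h) <;> exact absurd (congrArg ChevalleyDatum.nroots h) (by decide +kernel)))
  haveI : IsSimpleGroup GC := (CfsgLib.Lie.Chev.isSimple certD4 (ZMod 3) hc hperf).1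
  let f : chevD4.SteinbergGroup (ZMod 3) →* ↥Om :=
    (modelHom (D4.isModel (ZMod 3))).codRestrict _ fun z => by
      show _ ∈ Cfsg.Omega (ZMod 3) (Cfsg.quadFormPlus 4 (ZMod 3))
      rw [D4.omega_eq]
      exact ⟨z, rfl⟩
  have hf : Function.Surjective f := by
    rintro ⟨z, hz⟩
    rw [show (Om : Subgroup O) = _ from D4.omega_eq (ZMod 3)] at hz
    obtain ⟨w, rfl⟩ := hz
    exact ⟨w, rfl⟩
  let π : chevD4.SteinbergGroup (ZMod 3) →* P := proj.comp f
  have hπ : Function.Surjective π := (QuotientGroup.mk'_surjective _).comp hf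
  have hker : (stTheta certD4 (ZMod 3)).ker ≤ π.ker := by
    rw [← center_stGroup certD4 (ZMod 3) witD4 hc]
    intro z hz
    refine (QuotientGroup.eq_one_iff _).2 (Subgroup.mem_center_iff.2 fun w => ?_)
    obtain ⟨w, rfl⟩ := hf w
    rw [← map_mul, ← map_mul, Subgroup.mem_center_iff.1 hz w]
  obtain ⟨ψ, hψ⟩ : ∃ ψ : GC →* P, ∀ z, ψ (stTheta certD4 (ZMod 3) z) = π z :=
    ⟨MonoidHom.liftOfSurjective _ (stTheta_surjective certD4 (ZMod 3)) ⟨π, hker⟩, fun z =>
      MonoidHom.liftOfRightInverse_comp_apply _ _ _ _ z⟩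
  have hsurj : Function.Surjective ψ := fun b => by
    obtain ⟨z, rfl⟩ := hπ b
    exact ⟨_, hψ z⟩
  have hinj : Function.Injective ψ := by
    rw [← MonoidHom.ker_eq_bot_iff]
    refine (ψ.normal_ker).eq_bot_or_eq_top.resolve_right fun e => ?_
    have h1 : ψ (stTheta certD4 (ZMod 3) (chevD4.stGen (ZMod 3) 12 1)) = 1 :=
      MonoidHom.mem_ker.1 (e ▸ Subgroup.mem_top _)
    rw [hψ] at h1
    have h2 : y 0 = 1 := by
      rw [← h1]
      refine congrArg proj (Subtype.ext ?_)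
      show rep 0 = modelHom (D4.isModel (ZMod 3)) (chevD4.stGen (ZMod 3) 12 1)
      rw [modelHom_gen, rep, show repData.getD 0 [] = [12] from rfl, wd_single]
      rfl
    have h3 := order_y (i := 0) (by norm_num)
    rw [h2, orderOf_one] at h3
    omega
  refine ⟨MulEquiv.ofBijective ψ ⟨hinj, hsurj⟩, fun g _ => ?_⟩
  show ψ _ = _
  rw [← stTheta_gen, hψ]
  exact congrArg proj (Subtype.ext (modelHom_gen (D4.isModel (ZMod 3)) g 1))

set_option maxHeartbeats 1600000 in
theorem exists_symm : ∃ S : Equiv.Perm (Fin 3) →* MulAut P, ∀ σ (i : Fin chevD4.rank),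
    S σ (proj ⟨x (chevD4.simple i), x_mem_Om _⟩) =
      proj ⟨x (chevD4.simple (permD4 σ i)), x_mem_Om _⟩ := by
  obtain ⟨ε, hε⟩ := exists_iso
  have hS := ChevDiag.stepsD4
  have hL : ∀ i j : ℕ, chevD4.graphExp (ringChar (ZMod 3)) i j = 1 := exp_D4 _
  have hτ : ∀ τ : ZMod 3 ≃+* ZMod 3, τ = 1 := fun τ => RingEquiv.ext fun t => by
    have h : ∀ t : ZMod 3, t = 0 ∨ t = 1 ∨ t = -1 := by decide
    rcases h t with rfl | rfl | rfl
    · exact map_zero τ
    · exact map_one τ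
    · rw [map_neg, map_one]; rfl
  have hlift : ∀ σ, ∃ φ : MulAut GC, Act certD4 φ (permD4 σ) 1 1 := by
    intro σ
    obtain ⟨k, hk⟩ := permD4_eq_symD4 σ
    obtain ⟨φ, -, τ, c, h⟩ := symD4_mem (F := ZMod 3) k
    rw [hk, hτ τ] at h
    have h1 := h.diag_comp certD4 hS c⁻¹
    rw [inv_mul_cancel] at h1
    exact ⟨_, h1⟩
  choose s₀ hs₀ using hlift
  have hm : ∀ σ σ', s₀ (σ * σ') = s₀ σ * s₀ σ' := fun σ σ' => by
    have h := act_mul hL (hs₀ σ) (hs₀ σ')
    refine (hs₀ (σ * σ')).eq ?_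
    convert h using 1
    all_goals first
      | exact map_mul _ _ _
      | rfl
      | (funext j; simp)
  obtain ⟨C, hC⟩ : ∃ C : MulAut GC →* MulAut P, ∀ φ z, C φ (ε z) = ε (φ z) :=
    ⟨MonoidHom.mk' (fun φ => (ε.symm.trans φ).trans ε) fun φ φ' => MulEquiv.ext fun z => by
      simp [MulEquiv.trans_apply, MulAut.mul_apply],
      fun φ z => by simp [MulEquiv.trans_apply]⟩
  refine ⟨C.comp (MonoidHom.mk' s₀ hm), fun σ i => ?_⟩
  have hlt : ∀ j : Fin chevD4.rank, chevD4.simple j < 24 := fun j => certD4.simple_lt j.2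
  have key : s₀ σ (xG certD4 (ZMod 3) (chevD4.simple i) 1) =
      xG certD4 (ZMod 3) (chevD4.simple (permD4 σ i)) 1 := by
    have h := (hs₀ σ i 1).1
    rw [Pi.one_apply, Units.val_one, one_mul, map_one, one_pow] at h
    exact h
  rw [← hε _ (hlt i), ← hε _ (hlt _), MonoidHom.comp_apply, hC, MonoidHom.mk'_apply, key]

end CfsgLib.ThreeTrans.O83
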