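import Cfsg.Agent.Lib.ThreeTrans.O83.Outer
import Cfsg.Agent.Lib.ThreeTrans.O83.CountChecks

set_option autoImplicit false
set_option maxRecDepth 4000

/-!
The thirteen classes of subgroups of order 3 of PΩ⁺(8, 3) and their permutation by the diagram symmetries
(owner: helper18).
-/

namespace CfsgLib.ThreeTrans.O83

open Cfsg.Lie
open CfsgLib.Lie.Chev (certD4)
open CfsgLib.ThreeTrans.O73 (Row get)
open scoped Matrix

attribute [local irreducible] ev differs wd

/-- The norm in the ordered basis. -/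
def qs (v : Fin 8 → ZMod 3) : ZMod 3 := v 0 * v 7 + v 1 * v 6 + v 2 * v 5 + v 3 * v 4

theorem qs_eq (v : Idx → ZMod 3) : qs (v ∘ pos.symm) = qf v := by
  simp [qs, Cfsg.quadFormPlus, Fin.sum_univ_four, pos]

theorem qs_mat (g : O) (v : Fin 8 → ZMod 3) : qs (mat g *ᵥ v) = qs v := by
  have e : mat g *ᵥ v = (((g : GL Idx (ZMod 3)) : Matrix Idx Idx (ZMod 3)) *ᵥ (v ∘ pos)) ∘ pos.symm := by
    rw [mat, Matrix.submatrix_mulVec_equiv]
    rfl
  have h := g.2 (v ∘ pos) (v ∘ pos)
  rw [e, qs_eq]
  refine h.trans ?_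
  show qf (v ∘ pos) = qs v
  rw [← qs_eq (v ∘ pos), show (v ∘ pos) ∘ pos.symm = v from funext fun i => congrArg v (pos.apply_symm_apply i)]

/-- The number of fixed vectors of given norm. -/
noncomputable def fixCount (g : O) (c : ZMod 3) : ℕ :=
  Nat.card {v : Fin 8 → ZMod 3 // mat g *ᵥ v = v ∧ qs v = c}

theorem fixCount_conj (h g : O) (c : ZMod 3) : fixCount (h * g * h⁻¹) c = fixCount g c := by
  have inv : ∀ (y : O) (v : Fin 8 → ZMod 3), mat y⁻¹ *ᵥ (mat y *ᵥ v) = v := fun y v => by
    rw [Matrix.mulVec_mulVec, ← mat_mul, inv_mul_cancel, mat_one, Matrix.one_mulVec]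
  refine Nat.card_congr
    { toFun := fun v => ⟨mat h⁻¹ *ᵥ v.1, ?_, by rw [qs_mat]; exact v.2.2⟩
      invFun := fun v => ⟨mat h *ᵥ v.1, ?_, by rw [qs_mat]; exact v.2.2⟩
      left_inv := fun v => Subtype.ext (by simpa using inv h⁻¹ v.1)
      right_inv := fun v => Subtype.ext (inv h v.1) }
  · conv_rhs => rw [← v.2.1]
    rw [Matrix.mulVec_mulVec, Matrix.mulVec_mulVec, ← mat_mul, ← mat_mul]
    rw [show h⁻¹ * (h * g * h⁻¹) = g * h⁻¹ by group]
  · conv_rhs => rw [← v.2.1]
    rw [Matrix.mulVec_mulVec, Matrix.mulVec_mulVec, ← mat_mul, ← mat_mul]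
    rw [show h * g * h⁻¹ * h = h * g by group]

theorem fixCount_sq {g : O} (h : g * (g * g) = 1) (c : ZMod 3) : fixCount (g * g) c = fixCount g c := by
  refine Nat.card_congr (Equiv.subtypeEquivRight fun v => and_congr_left fun _ => ⟨fun hv => ?_, fun hv => ?_⟩)
  · have e : g = (g * g) * (g * g) := by
      calc g = g * (g * (g * g)) := by rw [h, mul_one]
        _ = _ := by simp only [mul_assoc]
    rw [e, mat_mul, ← Matrix.mulVec_mulVec, hv, hv]
  · rw [mat_mul, ← Matrix.mulVec_mulVec, hv, hv]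

/-- The vector with a given number. -/
def vec (n : ℕ) : Fin 8 → ZMod 3 := fun j => digit n j

theorem dot_eq {A : List Row} (n : ℕ) (i : Fin 8) :
    dot (A.getD (i : ℕ) (0, 0)) n = (dec A *ᵥ vec n) i := by
  simp [dot, dec, Matrix.mulVec, dotProduct, Fin.sum_univ_eight, vec, add_assoc]

theorem fixes_iff {A : List Row} (n : ℕ) : fixes A n = true ↔ dec A *ᵥ vec n = vec n := by
  simp only [fixes, List.all_eq_true, List.mem_range, Bool.or_eq_true, beq_iff_eq, funext_iff]
  refine ⟨fun h i => ?_, fun h i hi => Or.inr ?_⟩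
  · rw [← dot_eq]
    rcases h i i.2 with e | e
    · rw [e, dot_eq, dec_eye, Matrix.one_mulVec]
    · exact e
  · have := h ⟨i, hi⟩
    rw [← dot_eq] at this
    exact this

theorem counts_eq (A : List Row) : counts A =
    ((List.range 6561).countP fun n => fixes A n && nrm n == 1,
      (List.range 6561).countP fun n => fixes A n && nrm n == 2) := by
  have h12 : ((1 : ZMod 3) == 2) = false := by decide
  have key : ∀ (l : List ℕ) (a : ℕ × ℕ), l.foldl (fun a n =>
      if fixes A n then (if nrm n == 1 then (a.1 + 1, a.2) else if nrm n == 2 then (a.1, a.2 + 1) else a) else a) a =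
      (a.1 + l.countP fun n => fixes A n && nrm n == 1, a.2 + l.countP fun n => fixes A n && nrm n == 2) := by
    intro l
    induction l with
    | nil => intro a; simp
    | cons n l ih =>
      intro a
      rw [List.foldl_cons, ih]
      cases hf : fixes A n
      · simp [List.countP_cons, hf]
      · by_cases h1 : nrm n = 1
        · simp [List.countP_cons, hf, h1, h12]
          omega
        · by_cases h2 : nrm n = 2
          · have h21 : ((2 : ZMod 3) == 1) = false := by decide
            simp [List.countP_cons, hf, h2, h21]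
            omega
          · simp [List.countP_cons, hf, h1, h2]
  rw [counts, key]
  simp

theorem fixCount_counts (i : ℕ) :
    (fixCount (rep i) 1, fixCount (rep i) 2) = counts (ev (repData.getD i [])) := by
  rw [counts_eq]
  have key : ∀ c : ZMod 3, fixCount (rep i) c =
      (List.range 6561).countP fun n => fixes (ev (repData.getD i [])) n && nrm n == c := by
    intro c
    rw [fixCount, rep, mat_wd]
    generalize ev (repData.getD i []) = A
    let e : Fin (3 ^ 8) ≃ (Fin 8 → ZMod 3) := finFunctionFinEquiv.symm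
    have he : ∀ n : Fin (3 ^ 8), e n = vec n := fun n => funext fun j => by
      show (finFunctionFinEquiv.symm n) j = digit n j
      apply Fin.ext
      simp [finFunctionFinEquiv, digit]
      exact (ZMod.val_natCast (n := 3) _).symm
    rw [← Nat.card_congr ((e.subtypeEquiv fun n => Iff.rfl) :
      {n : Fin (3 ^ 8) // dec A *ᵥ e n = e n ∧ qs (e n) = c} ≃ _), Nat.card_eq_fintype_card,
      Fintype.card_subtype]
    rw [List.countP_eq_length_filter]
    have hn : (List.range 6561).filter (fun n => fixes A n && nrm n == c) |>.Nodup :=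
      List.nodup_range.filter _
    rw [← List.toFinset_card_of_nodup hn]
    refine Finset.card_bij (fun n _ => (n : ℕ)) (fun n hn => ?_) (fun a _ b _ h => Fin.ext h) (fun n hn => ?_)
    · simp only [Finset.mem_filter, Finset.mem_univ, true_and, he] at hn
      simp only [List.mem_toFinset, List.mem_filter, List.mem_range, Bool.and_eq_true, beq_iff_eq]
      exact ⟨n.2, (fixes_iff _).2 hn.1, hn.2⟩
    · simp only [List.mem_toFinset, List.mem_filter, List.mem_range, Bool.and_eq_true, beq_iff_eq] at hn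
      refine ⟨⟨n, hn.1⟩, ?_, rfl⟩
      simp only [Finset.mem_filter, Finset.mem_univ, true_and, he]
      exact ⟨(fixes_iff _).1 hn.2.1, hn.2.2⟩
  rw [key 1, key 2]

/-- Conjugacy of subgroups. -/
def Rel (A B : Subgroup P) : Prop := ∃ g : P, A.map (MulAut.conj g).toMonoidHom = B

theorem rel_conj (A : Subgroup P) (g : P) : Rel A (A.map (MulAut.conj g).toMonoidHom) := ⟨g, rfl⟩

theorem Rel.trans {A B C : Subgroup P} : Rel A B → Rel B C → Rel A C := by
  rintro ⟨g, rfl⟩ ⟨h, rfl⟩
  refine ⟨h * g, ?_⟩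
  rw [Subgroup.map_map]
  congr 1
  ext z
  simp [mul_assoc]

theorem Rel.symm {A B : Subgroup P} : Rel A B → Rel B A := by
  rintro ⟨g, rfl⟩
  refine ⟨g⁻¹, ?_⟩
  rw [Subgroup.map_map]
  conv_rhs => rw [← Subgroup.map_id A]
  congr 1
  ext z
  simp [mul_assoc]

theorem Rel.aut {A B : Subgroup P} (φ : MulAut P) : Rel A B → Rel (A.map φ.toMonoidHom) (B.map φ.toMonoidHom) := by
  rintro ⟨g, rfl⟩
  refine ⟨φ g, ?_⟩
  rw [Subgroup.map_map, Subgroup.map_map]
  congr 1
  ext z
  simp

/-- The representative subgroups. -/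
noncomputable def X (i : Fin 13) : Subgroup P := Subgroup.zpowers (y i)

theorem card_X (i : Fin 13) : Nat.card (X i) = 3 := by
  rw [X, Nat.card_zpowers, order_y i.2]

theorem exists_rel {A : Subgroup P} (h : Nat.card A = 3) : ∃ i, Rel A (X i) := by
  haveI : Fact (Nat.Prime 3) := ⟨Nat.prime_three⟩
  obtain ⟨v, hv⟩ := exists_prime_orderOf_dvd_card' (G := A) 3 (by rw [h])
  rw [← Subgroup.orderOf_coe] at hv
  obtain ⟨i, hi, g, hg⟩ := classify hv
  have e : Subgroup.zpowers (v : P) = A :=
    Subgroup.eq_of_le_of_card_ge (Subgroup.zpowers_le.2 v.2) (by rw [h, Nat.card_zpowers, hv])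
  refine ⟨⟨i, hi⟩, g, ?_⟩
  refine Subgroup.eq_of_le_of_card_ge ?_ ?_
  · rw [← e, MonoidHom.map_zpowers, Subgroup.zpowers_le]
    exact hg
  · rw [card_X, Subgroup.card_map_of_injective (MulAut.conj g).injective, h]

theorem count_eq_of_rel {i j : Fin 13} (h : Rel (X i) (X j)) :
    countData.getD i (0, 0) = countData.getD j (0, 0) := by
  obtain ⟨g, hg⟩ := h
  obtain ⟨g, rfl⟩ := QuotientGroup.mk'_surjective (Subgroup.center Om) g
  have hm : proj g * y i * (proj g)⁻¹ ∈ Subgroup.zpowers (y j) := by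
    rw [show Subgroup.zpowers (y j) = X j from rfl, ← hg]
    exact Subgroup.mem_map_of_mem _ (Subgroup.mem_zpowers _)
  have h3 : ∀ k : ℕ, k < 13 → r k * (r k * r k) = 1 := fun k hk => Subtype.ext (rep_cube hk).1
  have ho : IsOfFinOrder (y j) := isOfFinOrder_of_finite _
  obtain ⟨e, he⟩ := ho.mem_powers_iff_mem_zpowers.2 hm
  dsimp only at he
  rw [← pow_mod_orderOf, order_y j.2] at he
  have hA : (g * r i * g⁻¹ * ((r (j : ℕ)) ^ (e % 3))⁻¹) = 1 := by
    have hcen : proj (g * r i * g⁻¹ * ((r (j : ℕ)) ^ (e % 3))⁻¹) = 1 := by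
      rw [map_mul, map_mul, map_mul, map_inv, map_inv, map_pow, mul_inv_eq_one]
      exact he.symm
    have hc := (QuotientGroup.eq_one_iff _).1 hcen
    have h2 := center_Om_sq hc
    have hcomm : Commute (g * r i * g⁻¹ * ((r (j : ℕ)) ^ (e % 3))⁻¹) ((r (j : ℕ)) ^ (e % 3)) :=
      (Subgroup.mem_center_iff.1 hc _).symm
    set z := g * r i * g⁻¹ * ((r (j : ℕ)) ^ (e % 3))⁻¹ with hz
    have hp : (z * r (j : ℕ) ^ (e % 3)) ^ 3 = 1 := by
      rw [hz, inv_mul_cancel_right, conj_pow, pow_succ', pow_two, h3 i i.2]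
      simp
    have hj : (r (j : ℕ) ^ (e % 3)) ^ 3 = 1 := by
      rw [← pow_mul, mul_comm, pow_mul, pow_succ', pow_two, h3 j j.2, one_pow]
    rw [hcomm.mul_pow, hj, mul_one, pow_succ, h2, one_mul] at hp
    exact hp
  rw [mul_inv_eq_one] at hA
  have hO : (g : O) * rep i * (g : O)⁻¹ = rep j ^ (e % 3) := congrArg Subtype.val hA
  have hne : e % 3 ≠ 0 := fun h0 => by
    rw [h0, pow_zero] at hO
    exact (rep_cube i.2).2 (conj_eq_one_iff.1 hO)
  have hc : ∀ c, fixCount (rep i) c = fixCount (rep j) c := fun c => by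
    rw [← fixCount_conj (g : O) (rep i), hO]
    rcases (show e % 3 = 1 ∨ e % 3 = 2 by omega) with h | h <;> rw [h]
    · rw [pow_one]
    · rw [pow_two]; exact fixCount_sq (rep_cube j.2).1 c
  have hd : ∀ k : Fin 13, countData.getD k (0, 0) = counts (ev (repData.getD k [])) := fun k => by
    have := congrArg (fun l => l.getD (k : ℕ) (0, 0)) count_ok
    rw [← this, List.getD_eq_getElem _ _ (by simp)]
    simp
  rw [hd, hd, ← fixCount_counts, ← fixCount_counts, hc, hc]

theorem exists_images : ∃ (S : Equiv.Perm (Fin 3) →* MulAut P) (t s : Equiv.Perm (Fin 3)),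
    (∀ σ, σ ∈ [1, t, t * t, s, s * t, s * (t * t)]) ∧ t ^ 3 = 1 ∧
    (∀ i : Fin 13, ∀ j : Fin 13, (j : ℕ) = tauPerm.getD i 0 → Rel ((X i).map (S t).toMonoidHom) (X j)) ∧
    (∀ i : Fin 13, ∀ j : Fin 13, (j : ℕ) = sigPerm.getD i 0 → Rel ((X i).map (S s).toMonoidHom) (X j)) := by
  obtain ⟨S, hS⟩ := exists_symm
  have key : ∀ (σ : Equiv.Perm (Fin 3)) (L : ℕ → ℕ) (tab : List (ℕ × ℕ × List ℕ)) (perm : List ℕ),
      (∀ i : Fin chevD4.rank, L (chevD4.simple i) = chevD4.simple (CfsgLib.Known.ChevAut.permD4 σ i)) →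
      (((List.range 13).all fun i => imgOK L tab i) = true) →
      (∀ i < 13, (tab.getD i (0, 0, [])).1 = perm.getD i 0) →
      ∀ i : Fin 13, ∀ j : Fin 13, (j : ℕ) = perm.getD i 0 → Rel ((X i).map (S σ).toMonoidHom) (X j) := by
    intro σ L tab perm hL hok htab i j hj
    have hsimp := List.all_eq_true.1 simple_ok i (List.mem_range.2 i.2)
    simp only [Bool.and_eq_true, List.all_eq_true, List.contains_iff_mem, beq_iff_eq] at hsimp
    obtain ⟨hmem, hev⟩ := hsimp
    have himg : ∀ w : List ℕ, (∀ g ∈ w, g ∈ [18, 14, 13, 12]) →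
        S σ (proj ⟨wd w, wd_mem_Om w⟩) = proj ⟨wd (w.map L), wd_mem_Om _⟩ := by
      intro w
      induction w with
      | nil =>
        intro _
        have : (⟨wd [], wd_mem_Om []⟩ : ↥Om) = 1 := Subtype.ext wd_nil
        simp only [List.map_nil, this, map_one]
      | cons g w ih =>
        intro hw
        have e1 : (⟨wd (g :: w), wd_mem_Om _⟩ : ↥Om) = ⟨x g, x_mem_Om g⟩ * ⟨wd w, wd_mem_Om w⟩ :=
          Subtype.ext (show wd (g :: w) = x g * wd w by rw [wd, wd, List.map_cons, List.prod_cons])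
        have e2 : (⟨wd ((g :: w).map L), wd_mem_Om _⟩ : ↥Om) =
            ⟨x (L g), x_mem_Om _⟩ * ⟨wd (w.map L), wd_mem_Om _⟩ :=
          Subtype.ext (show wd ((g :: w).map L) = x (L g) * wd (w.map L) by rw [wd, wd, List.map_cons, List.map_cons, List.prod_cons])
        obtain ⟨k, hk⟩ : ∃ k : Fin chevD4.rank, chevD4.simple k = g :=
          (by decide +kernel : ∀ g ∈ [18, 14, 13, 12], ∃ k : Fin chevD4.rank, chevD4.simple k = g) g
            (hw g List.mem_cons_self)
        rw [e1, e2, map_mul, map_mul, map_mul, ih fun z hz => hw z (List.mem_cons_of_mem _ hz)]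
        congr 1
        subst hk
        rw [hS σ k]
        exact congrArg proj (Subtype.ext (congrArg x (hL k).symm))
    have h := List.all_eq_true.1 hok i (List.mem_range.2 i.2)
    unfold imgOK at h
    obtain ⟨⟨j', e, c⟩, hr⟩ : ∃ r, tab.getD i (0, 0, []) = r := ⟨_, rfl⟩
    have hj' : j' = (j : ℕ) := by rw [hj, ← htab i i.2, hr]
    rw [hr] at h
    simp only [Bool.and_eq_true, Bool.or_eq_true, beq_iff_eq, decide_eq_true_eq] at h
    obtain ⟨⟨-, he⟩, hc⟩ := h
    have hy : y i = proj ⟨wd (repSimple.getD i []), wd_mem_Om _⟩ :=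
      congrArg proj (Subtype.ext (wd_eq hev).symm)
    refine ⟨proj ⟨wd c, wd_mem_Om c⟩, ?_⟩
    rw [X, X, MonoidHom.map_zpowers, MonoidHom.map_zpowers]
    have hw := wd_eq hc
    simp only [wd_append, wd_winv] at hw
    have hconj : (MulAut.conj (proj ⟨wd c, wd_mem_Om c⟩)).toMonoidHom ((S σ).toMonoidHom (y i)) =
        proj (if e == 1 then r j else r j * r j) := by
      show proj ⟨wd c, wd_mem_Om c⟩ * S σ (y i) * (proj ⟨wd c, wd_mem_Om c⟩)⁻¹ = _
      rw [hy, himg _ hmem, ← map_inv, ← map_mul, ← map_mul]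
      refine congrArg proj (Subtype.ext ?_)
      refine hw.trans ?_
      rcases he with rfl | rfl
      · simp [hj', r, rep]
      · simp [hj', r, rep, wd_append]
    rw [hconj]
    rcases he with rfl | rfl
    · simp [y]
    · simp only [show ((2 : ℕ) == 1) = false from rfl, Bool.false_eq_true, if_false, map_mul]
      have h3 : y j * (y j * y j) = 1 := by
        rw [y, ← map_mul, ← map_mul, show r j * (r j * r j) = 1 from Subtype.ext (rep_cube j.2).1, map_one]
      show Subgroup.zpowers (y j * y j) = _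
      rw [show y j * y j = (y j)⁻¹ from eq_inv_of_mul_eq_one_right h3, Subgroup.zpowers_inv]
  refine ⟨S, finRotate 3, Equiv.swap 1 2, by decide +kernel, by decide +kernel,
    key _ tauL tauData tauPerm (by decide +kernel) tau_ok (by decide +kernel),
    key _ sigL sigData sigPerm (by decide +kernel) sig_ok (by decide +kernel)⟩

theorem separation : ∀ i j : Fin 13,
    countData.getD i (0, 0) = countData.getD j (0, 0) →
    countData.getD (tauPerm.getD i 0) (0, 0) = countData.getD (tauPerm.getD j 0) (0, 0) →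
    countData.getD (tauPerm.getD (tauPerm.getD i 0) 0) (0, 0) =
      countData.getD (tauPerm.getD (tauPerm.getD j 0) 0) (0, 0) → i = j := by decide +kernel

theorem tauPerm_lt : ∀ i < 13, tauPerm.getD i 0 < 13 ∧ sigPerm.getD i 0 < 13 := by decide +kernel

theorem rel_inj {i j : Fin 13} (h : Rel (X i) (X j)) : i = j := by
  obtain ⟨S, t, -, -, -, ht, -⟩ := exists_images
  let τ : Fin 13 → Fin 13 := fun k => ⟨tauPerm.getD k 0, (tauPerm_lt k k.2).1⟩
  have step : ∀ a b : Fin 13, Rel (X a) (X b) → Rel (X (τ a)) (X (τ b)) := fun a b hab =>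
    ((ht a (τ a) rfl).symm.trans (hab.aut (S t))).trans (ht b (τ b) rfl)
  exact separation i j (count_eq_of_rel h) (count_eq_of_rel (step i j h))
    (count_eq_of_rel (step _ _ (step i j h)))

end CfsgLib.ThreeTrans.O83
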